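import Groth.Agent.ValLib.EtLift

/-!
# Universally closed morphisms with decent source: existence part of the valuative criterion
-/

universe u

open CategoryTheory CategoryTheory.Limits AlgebraicGeometry Opposite IsLocalRing

set_option backward.isDefEq.respectTransparency false

namespace Groth.Agent.ValLib

open _root_.AlgSp Groth.Agent.AlgSpLib

variable {S : Scheme.{u}}

/-- in a decent space the fibre of an affine etale chart over any field valued point is quasi-compact -/
theorem compactSpace_fibre {X : Sp S} (hX : IsAlgSpace X) (hd : IsDecent X) {U : Over S} [IsAffine U.left]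
    {a : (yon S).obj U ⟶ X} {K : Type u} [Field K] {str : Spec (CommRingCat.of K) ⟶ S}
    (x : (yon S).obj (Over.mk str) ⟶ X) {V : Over S} {p : V ⟶ U} {q : V ⟶ Over.mk str}
    (sq : IsPullback ((yon S).map p) ((yon S).map q) a x) : CompactSpace V.left := by
  obtain ⟨p₀, hp₀, -, hq₀⟩ := hd (Points.ofPt x (closedPoint K))
  obtain ⟨V₀, pU, qK₀, sq₀⟩ := exists_pullback hX.diag a (fieldHom p₀)
  have hpU : QuasiCompact pU.left := hq₀.2 a _ pU sq₀.flip
  obtain ⟨Q, qx, q₀, sqQ⟩ := exists_pullback hX.diag x (fieldHom p₀)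
  have hqx : QuasiCompact qx.left := hq₀.2 x _ qx sqQ.flip
  have : IsAffine (Over.mk str).left := inferInstanceAs (IsAffine (Spec (CommRingCat.of K)))
  have : CompactSpace V₀.left := QuasiCompact.compactSpace_of_compactSpace pU.left
  have : IsAffine p₀.pt.left := inferInstanceAs (IsAffine (Spec (CommRingCat.of p₀.K)))
  have : QuasiCompact qK₀.left := HasAffineProperty.iff_of_isAffine.mpr ‹CompactSpace V₀.left›
  have : CompactSpace Q.left := QuasiCompact.compactSpace_of_compactSpace qx.left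
  have : Surjective qx.left := ⟨fun t => by
    have ht : Points.ofPt x t = Points.ofPt (fieldHom p₀) (closedPoint p₀.K : ↥p₀.pt.left) := by
      rw [Subsingleton.elim (α := PrimeSpectrum K) t (closedPoint K), ← mk_eq_ofPt]
      exact hp₀.symm
    obtain ⟨w, hw, -⟩ := (ofPt_eq_iff sqQ t (closedPoint p₀.K : ↥p₀.pt.left)).1 ht
    exact ⟨w, hw⟩⟩
  let R := pullback qK₀.left q₀.left
  have : CompactSpace R := QuasiCompact.compactSpace_of_compactSpace (pullback.snd qK₀.left q₀.left)
  let Ro : Over S := Over.mk (pullback.fst qK₀.left q₀.left ≫ V₀.hom)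
  let r₁ : Ro ⟶ V₀ := Over.homMk (pullback.fst qK₀.left q₀.left) rfl
  let r₂ : Ro ⟶ Q := Over.homMk (pullback.snd qK₀.left q₀.left) (by
    show _ ≫ Q.hom = pullback.fst qK₀.left q₀.left ≫ V₀.hom
    rw [← Over.w q₀, ← Over.w qK₀, pullback.condition_assoc])
  have hr : r₁ ≫ qK₀ = r₂ ≫ q₀ := Over.OverMorphism.ext pullback.condition
  obtain ⟨β, hβ⟩ := exists_map_eq (sq.lift ((yon S).map (r₁ ≫ pU)) ((yon S).map (r₂ ≫ qx)) (by
    rw [Functor.map_comp, Functor.map_comp, Category.assoc, Category.assoc, sq₀.w, sqQ.w, ← Functor.map_comp_assoc,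
      hr, Functor.map_comp_assoc]))
  let T : Over S := Over.mk (pullback.fst q.left qx.left ≫ V.hom)
  let t₁ : T ⟶ V := Over.homMk (pullback.fst q.left qx.left) rfl
  let t₂ : T ⟶ Q := Over.homMk (pullback.snd q.left qx.left) (by
    show _ ≫ Q.hom = pullback.fst q.left qx.left ≫ V.hom
    rw [← Over.w q, ← Over.w qx, pullback.condition_assoc])
  have ht : t₁ ≫ q = t₂ ≫ qx := Over.OverMorphism.ext pullback.condition
  obtain ⟨γ₀, hγ₀⟩ := exists_map_eq (sq₀.lift ((yon S).map (t₁ ≫ p)) ((yon S).map (t₂ ≫ q₀)) (by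
    rw [Functor.map_comp, Functor.map_comp, Category.assoc, Category.assoc, sq.w, ← sqQ.w, ← Functor.map_comp_assoc,
      ht, Functor.map_comp_assoc]))
  have h₁ : γ₀ ≫ pU = t₁ ≫ p := (yon S).map_injective (by rw [Functor.map_comp, hγ₀, sq₀.lift_fst])
  have h₂ : γ₀ ≫ qK₀ = t₂ ≫ q₀ := (yon S).map_injective (by rw [Functor.map_comp, hγ₀, sq₀.lift_snd])
  let γ : T ⟶ Ro := Over.homMk (pullback.lift γ₀.left t₂.left (congrArg (fun m => m.left) h₂))
    ((pullback.lift_fst_assoc _ _ _ _).trans (Over.w γ₀))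
  have e₁ : γ ≫ r₁ = γ₀ := Over.OverMorphism.ext (pullback.lift_fst _ _ _)
  have e₂ : γ ≫ r₂ = t₂ := Over.OverMorphism.ext (pullback.lift_snd _ _ _)
  have hid : γ ≫ β = t₁ := (yon S).map_injective (sq.hom_ext
    (by rw [Functor.map_comp, Category.assoc, hβ, sq.lift_fst, ← Functor.map_comp, ← Functor.map_comp,
      reassoc_of% e₁, h₁])
    (by rw [Functor.map_comp, Category.assoc, hβ, sq.lift_snd, ← Functor.map_comp, ← Functor.map_comp,
      reassoc_of% e₂, ht]))
  have hsurj : Function.Surjective β.left := fun v => by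
    obtain ⟨s, hs⟩ := (pullback.fst q.left qx.left).surjective v
    exact ⟨γ.left s, (congr($(hid).left s)).trans hs⟩
  have : CompactSpace Ro.left := ‹CompactSpace R›
  exact ⟨hsurj.range_eq ▸ isCompact_range β.left.continuous⟩

theorem existVC_of_univClosed_decent {X Y : Sp S} (hX : IsAlgSpace X) (hY : IsAlgSpace Y) (f : X ⟶ Y)
    (hd : IsDecent X) (hc : IsUnivClosedMor f) (sq : ValSq f) :
    ∃ e : sq.DomExt, (letI := e.ψ.toAlgebra; Module.Finite sq.K e.K' ∧ Algebra.IsSeparable sq.K e.K') ∧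
      e.HasLift := by
  have sqP := IsPullback.of_hasPullback f sq.bot
  have hP : IsAlgSpace (pullback f sq.bot) := isAlgSpace_of_isPullback_space hY hX (IsAlgSpace.yon_obj _) sqP
  obtain ⟨pt, hpt, hxp⟩ := exists_specialization hc sq sqP
  obtain ⟨U₀, π, ι, O, hπ, hπs, hO, -, hOcov⟩ := exists_affine_chart_family hX
  obtain ⟨u, hu⟩ := ofPt_surjective hπs (Points.map (pullback.fst f sq.bot) pt)
  obtain ⟨k, hk⟩ := hOcov u
  let U : Over S := Over.mk ((O k).ι ≫ U₀.hom)
  have : IsAffine U.left := (hO k : IsAffine (O k).toScheme)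
  let inc : U ⟶ U₀ := Over.homMk (O k).ι rfl
  obtain ⟨a, hadef⟩ : ∃ a, a = (yon S).map inc ≫ π := ⟨_, rfl⟩
  have ha : RepWith @Etale a :=
    hadef ▸ repWith_comp ((repWith_yon_iff _).2 (show Etale (O k).ι from inferInstance)) hπ
  obtain ⟨W, wU, wA, sqW⟩ := exists_pullback hY.diag (a ≫ f) sq.bot
  obtain ⟨c, hcdef⟩ : ∃ c : (yon S).obj W ⟶ pullback f sq.bot, c = sqP.lift ((yon S).map wU ≫ a)
      ((yon S).map wA) (by rw [Category.assoc, sqW.w]) := ⟨_, rfl⟩
  have hcf : c ≫ pullback.fst f sq.bot = (yon S).map wU ≫ a := by rw [hcdef, sqP.lift_fst]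
  have hcs : c ≫ pullback.snd f sq.bot = (yon S).map wA := by rw [hcdef, sqP.lift_snd]
  have sqc : IsPullback ((yon S).map wU) c a (pullback.fst f sq.bot) :=
    IsPullback.of_bot (hcs ▸ sqW) hcf.symm sqP
  have hce : RepWith @Etale c := repWith_baseChange sqc ha
  obtain ⟨pw, -, hpw⟩ := exists_point_of_isPullback sqc (Points.ofScheme U ⟨u, hk⟩) pt (by
    rw [← hu, Points.map_ofPt, Category.id_comp, hadef, ofPt_comp]
    rfl)
  obtain ⟨w, rfl⟩ := (Points.schemeEquiv W).surjective pw
  have hcw : Points.ofPt c w = pt := (Points.ofPt_eq_map_ofScheme c w).trans hpw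
  refine exists_lift_of_chart hX hY sq sqP c hce (w := w) (by rw [hcw]; exact hpt) (hcw ▸ hxp)
    (finite_fibre hP hce _ fun V p q sqV => ?_)
  refine compactSpace_fibre hX hd (a := a) sq.top (p := p ≫ wU) (q := q) ?_
  have := sqV.paste_horiz sqc
  simpa using this

end Groth.Agent.ValLib
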