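import Mathlib.AlgebraicGeometry.Morphisms.Etale
import Mathlib.RingTheory.Unramified.Finite
import Mathlib.RingTheory.Unramified.Field
import Mathlib.RingTheory.Valuation.LocalSubring

/-!
# Field valued points of schemes etale over a field, valuation rings inside fields
-/

universe u

open CategoryTheory AlgebraicGeometry

set_option backward.isDefEq.respectTransparency false

namespace Groth.Agent.ValLib

/-- a field valued point of an etale scheme over a field factors through a finite separable extension -/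
theorem exists_finSep_point {K Ω : Type u} [Field K] [Field Ω] {V : Scheme.{u}}
    (g : V ⟶ Spec (CommRingCat.of K)) [Etale g] (z : Spec (CommRingCat.of Ω) ⟶ V) :
    ∃ (L : Type u) (_ : Field L) (i : K →+* L) (j : L →+* Ω) (m : Spec (CommRingCat.of L) ⟶ V),
      (letI := i.toAlgebra; Module.Finite K L ∧ Algebra.IsSeparable K L) ∧
      m ≫ g = Spec.map (CommRingCat.ofHom i) ∧ Spec.map (CommRingCat.ofHom j) ≫ m = z := by
  obtain ⟨O, hO, hz, -⟩ := TopologicalSpace.Opens.isBasis_iff_nbhd.mp V.isBasis_affineOpens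
    (TopologicalSpace.Opens.mem_top (z (IsLocalRing.closedPoint Ω)))
  let z₀ := IsOpenImmersion.lift hO.fromSpec z (by
    rw [hO.range_fromSpec]
    rintro _ ⟨p, rfl⟩
    rwa [Subsingleton.elim (α := PrimeSpectrum Ω) p (IsLocalRing.closedPoint Ω)])
  obtain ⟨ρ, hρ⟩ := Spec.map_surjective z₀
  obtain ⟨α, hα⟩ := Spec.map_surjective (hO.fromSpec ≫ g)
  have he : Etale (Spec.map α) := by rw [hα]; infer_instance
  have hu : α.hom.FormallyUnramified :=
    (HasRingHomProperty.Spec_iff (P := @FormallyUnramified)).1 inferInstance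
  have hf : α.hom.FiniteType := (HasRingHomProperty.Spec_iff (P := @LocallyOfFiniteType)).1 inferInstance
  algebraize [α.hom]
  let p : Ideal Γ(V, O) := RingHom.ker ρ.hom
  have : p.IsPrime := RingHom.ker_isPrime _
  have : Module.Finite K Γ(V, O) := Algebra.FormallyUnramified.finite_of_free K Γ(V, O)
  have hfin : Module.Finite K (Γ(V, O) ⧸ p) :=
    Module.Finite.of_surjective (Ideal.Quotient.mkₐ K p).toLinearMap Ideal.Quotient.mk_surjective
  have hfld : IsField (Γ(V, O) ⧸ p) := isField_of_isIntegral_of_isField' (Field.toIsField K)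
  letI : Field (Γ(V, O) ⧸ p) := hfld.toField
  have : Algebra.FormallyUnramified K (Γ(V, O) ⧸ p) :=
    Algebra.FormallyUnramified.of_surjective (Ideal.Quotient.mkₐ K p) Ideal.Quotient.mk_surjective
  have hsep : Algebra.IsSeparable K (Γ(V, O) ⧸ p) := Algebra.FormallyUnramified.isSeparable K _
  refine ⟨Γ(V, O) ⧸ p, inferInstance, algebraMap K (Γ(V, O) ⧸ p), RingHom.kerLift ρ.hom,
    Spec.map (CommRingCat.ofHom (Ideal.Quotient.mk p)) ≫ hO.fromSpec, ?_, ?_, ?_⟩
  · have e : (algebraMap K (Γ(V, O) ⧸ p)).toAlgebra = (inferInstance : Algebra K (Γ(V, O) ⧸ p)) :=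
      Algebra.algebra_ext _ _ fun _ => rfl
    show @Module.Finite K _ _ _ (@Algebra.toModule _ _ _ _ _) ∧ @Algebra.IsSeparable K _ _ _ _
    rw [e]
    exact ⟨hfin, hsep⟩
  · rw [Category.assoc, ← hα, ← Spec.map_comp]
    rfl
  · rw [← Spec.map_comp_assoc, show CommRingCat.ofHom (Ideal.Quotient.mk p) ≫
      CommRingCat.ofHom (RingHom.kerLift ρ.hom) = ρ from CommRingCat.hom_ext (RingHom.ext fun _ => rfl), hρ,
      IsOpenImmersion.lift_fac]

open IsLocalRing

/-- a valuation ring of a field realising a specialization -/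
theorem exists_valuation_of_specializes {L : Type u} [Field L] {W : Scheme.{u}}
    (m : Spec (CommRingCat.of L) ⟶ W) {w : W} (h : m (closedPoint L) ⤳ w) :
    ∃ (B : ValuationSubring L) (c : Spec (CommRingCat.of B) ⟶ W), c (closedPoint B) = w ∧
      Spec.map (CommRingCat.ofHom (algebraMap B L)) ≫ c = m := by
  let r : W.presheaf.stalk w ⟶ CommRingCat.of L :=
    W.presheaf.stalkSpecializes h ≫ Scheme.stalkClosedPointTo m
  obtain ⟨B, hB, hBl⟩ := exists_factor_valuationRing r.hom
  let α : W.presheaf.stalk w ⟶ CommRingCat.of B := CommRingCat.ofHom (r.hom.codRestrict B.toSubring hB)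
  refine ⟨B, Spec.map α ≫ W.fromSpecStalk w, ?_, ?_⟩
  · have : Spec.map α (closedPoint B) = closedPoint (W.presheaf.stalk w) :=
      comap_closedPoint (S := B) (r.hom.codRestrict B.toSubring hB)
    simp only [Scheme.Hom.comp_base, TopCat.coe_comp, Function.comp_apply, this, Scheme.fromSpecStalk_closedPoint]
  · rw [← Spec.map_comp_assoc, show α ≫ CommRingCat.ofHom (algebraMap B L) = r from rfl]
    simp only [r, Spec.map_comp, Category.assoc, Spec.map_comp,
      Scheme.SpecMap_stalkSpecializes_fromSpecStalk]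
    exact Scheme.Spec_stalkClosedPointTo_fromSpecStalk m

/-- a morphism to the spectrum of a domain with the right generic and closed values is induced by a local map -/
theorem exists_local_map {A K B L : Type u} [CommRing A] [IsDomain A] [IsLocalRing A] [Field K] [Algebra A K]
    [CommRing B] [IsDomain B] [IsLocalRing B] [Field L] [Algebra B L] (i : K →+* L)
    (c : Spec (CommRingCat.of B) ⟶ Spec (CommRingCat.of A))
    (hgen : Spec.map (CommRingCat.ofHom (algebraMap B L)) ≫ c =
      Spec.map (CommRingCat.ofHom i) ≫ Spec.map (CommRingCat.ofHom (algebraMap A K)))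
    (hcl : c (closedPoint B) = closedPoint A) :
    ∃ φ : A →+* B, IsLocalHom φ ∧ (algebraMap B L).comp φ = i.comp (algebraMap A K) ∧
      Spec.map (CommRingCat.ofHom φ) = c := by
  obtain ⟨ρ, rfl⟩ := Spec.map_surjective c
  refine ⟨ρ.hom, ?_, ?_, rfl⟩
  · constructor
    intro a ha
    by_contra hna
    have h1 : a ∈ (closedPoint A).asIdeal := (mem_maximalIdeal a).2 hna
    rw [← hcl] at h1
    exact (mem_maximalIdeal _).1 h1 ha
  · rw [← Spec.map_comp, ← Spec.map_comp] at hgen
    exact congrArg CommRingCat.Hom.hom (Spec.map_injective hgen)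

end Groth.Agent.ValLib
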