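import Groth.Agent.ValLib.Rep
import Groth.Agent.ValLib.FieldPoint
import Groth.Agent.UnivInjMor.MonoUnram
import Groth.Prelude.Def_AlgSpDec

/-!
# Lifting valuation rings to etale charts: the existence part for universally closed morphisms
-/

universe u

open CategoryTheory CategoryTheory.Limits AlgebraicGeometry Opposite IsLocalRing

set_option backward.isDefEq.respectTransparency false

namespace Groth.Agent.ValLib

open _root_.AlgSp Groth.Agent.AlgSpLib

variable {S : Scheme.{u}}

/-- an etale scheme over a field which is quasi-compact is finite -/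
theorem finite_of_etale_compact {K : Type u} [Field K] {V : Scheme.{u}} (g : V ⟶ Spec (CommRingCat.of K))
    [Etale g] [CompactSpace V] : (Set.univ : Set V).Finite := by
  have : LocallyQuasiFinite g := UnivInjMor.lqf_of_unramified g
  have : QuasiCompact g := HasAffineProperty.iff_of_isAffine.mpr ‹_›
  refine (g.finite_preimage_singleton (closedPoint K)).subset fun v _ => ?_
  exact Subsingleton.elim (α := PrimeSpectrum K) _ _

/-- the fibre of an etale chart is finite when the fibre product with the point is quasi-compact -/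
theorem finite_fibre {P : Sp S} (hP : IsAlgSpace P) {W : Over S} {c : (yon S).obj W ⟶ P} (hc : RepWith @Etale c)
    {K : Type u} [Field K] {str : Spec (CommRingCat.of K) ⟶ S} (x : (yon S).obj (Over.mk str) ⟶ P)
    (h : ∀ (V : Over S) (p : V ⟶ W) (q : V ⟶ Over.mk str),
      IsPullback ((yon S).map p) ((yon S).map q) c x → CompactSpace V.left) :
    {v : W.left | Points.ofPt c v = Points.ofPt x (closedPoint K)}.Finite := by
  obtain ⟨V, p, q, sq⟩ := exists_pullback hP.diag c x
  have : Etale q.left := (repWith_yon_iff q).1 (repWith_baseChange sq hc)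
  have := h V p q sq
  refine ((finite_of_etale_compact q.left).image p.left).subset fun v hv => ?_
  obtain ⟨w, hw, -⟩ := (ofPt_eq_iff sq v (closedPoint K : ↥(Over.mk str).left)).1 hv
  exact ⟨w, trivial, hw⟩

/-- a specialization of the generic point inside an etale chart with finite fibre gives a finite separable lift -/
theorem exists_lift_of_chart {X Y : Sp S} (hX : IsAlgSpace X) (hY : IsAlgSpace Y) {f : X ⟶ Y} (sq : ValSq f)
    {P : Sp S} {fst : P ⟶ X} {snd : P ⟶ (yon S).obj sq.ptA} (sqP : IsPullback fst snd f sq.bot) {W : Over S}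
    (c : (yon S).obj W ⟶ P) (hc : RepWith @Etale c) {w : W.left}
    (hw : Points.map snd (Points.ofPt c w) = Points.ofScheme sq.ptA (closedPoint sq.A))
    (hxw : Points.ofPt (sqP.lift sq.top ((yon S).map sq.j) sq.comm) (closedPoint sq.K) ⤳ Points.ofPt c w)
    (hfin : {v : W.left | Points.ofPt c v =
      Points.ofPt (sqP.lift sq.top ((yon S).map sq.j) sq.comm) (closedPoint sq.K)}.Finite) :
    ∃ e : sq.DomExt, (letI := e.ψ.toAlgebra; Module.Finite sq.K e.K' ∧ Algebra.IsSeparable sq.K e.K') ∧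
      e.HasLift := by
  have hP : IsAlgSpace P := isAlgSpace_of_isPullback_space hY hX (IsAlgSpace.yon_obj _) sqP
  let x := sqP.lift sq.top ((yon S).map sq.j) sq.comm
  let x₀ : Points P := Points.ofPt x (closedPoint sq.K)
  have h1 : w ∈ Points.ofPt c ⁻¹' closure {x₀} := specializes_iff_mem_closure.1 hxw
  have h2 := (isOpenMap_ofPt (repWith_universallyOpen_of_etale hc)).preimage_closure_subset_closure_preimage h1
  obtain ⟨v, hv, hvw⟩ : ∃ v, Points.ofPt c v = x₀ ∧ v ⤳ w := by
    have : Points.ofPt c ⁻¹' {x₀} = ⋃ v ∈ Points.ofPt c ⁻¹' {x₀}, {v} := (Set.biUnion_of_singleton _).symm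
    have hfin' : (Points.ofPt c ⁻¹' {x₀}).Finite := hfin
    rw [this, Set.Finite.closure_biUnion hfin'] at h2
    simp only [Set.mem_iUnion] at h2
    obtain ⟨v, hv, hvw⟩ := h2
    exact ⟨v, hv, specializes_iff_mem_closure.2 hvw⟩
  obtain ⟨hh, hhh⟩ := exists_map_eq (c ≫ snd)
  obtain ⟨V, p, q, sqV⟩ := exists_pullback hP.diag c x
  have : Etale q.left := (repWith_yon_iff q).1 (repWith_baseChange sqV hc)
  obtain ⟨z, hz, -⟩ := (ofPt_eq_iff sqV v (closedPoint sq.K : ↥sq.ptK.left)).1 hv
  obtain ⟨L, _, i, j, m, hfs, hmi, hjm⟩ := exists_finSep_point q.left (V.left.fromSpecResidueField z)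
  have hm : (m ≫ p.left) (closedPoint L) = v := by
    have e : Spec.map (CommRingCat.ofHom j) (closedPoint (V.left.residueField z)) = closedPoint L :=
      Subsingleton.elim (α := PrimeSpectrum L) _ _
    rw [← e, ← Scheme.Hom.comp_apply, ← Category.assoc, hjm, Scheme.Hom.comp_apply]
    exact (congrArg p.left (Scheme.fromSpecResidueField_apply z _)).trans hz
  obtain ⟨B, c', hc'w, hc'm⟩ := exists_valuation_of_specializes (m ≫ p.left) (w := w) (by rw [hm]; exact hvw)
  have hsq : p ≫ hh = q ≫ sq.j := (yon S).map_injective (by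
    rw [Functor.map_comp, Functor.map_comp, hhh, ← Category.assoc, sqV.w, Category.assoc, sqP.lift_snd])
  have hgen : Spec.map (CommRingCat.ofHom (algebraMap B L)) ≫ c' ≫ hh.left =
      Spec.map (CommRingCat.ofHom i) ≫ Spec.map (CommRingCat.ofHom (algebraMap sq.A sq.K)) := by
    rw [reassoc_of% hc'm, ← hmi, Category.assoc]
    exact congrArg (fun t => m ≫ t) (congrArg (fun t => t.left) hsq)
  have hcl : (c' ≫ hh.left) (closedPoint B) = closedPoint sq.A := by
    rw [Scheme.Hom.comp_apply, hc'w]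
    rw [Points.map_ofPt, ← hhh, ofScheme_map] at hw
    exact (Points.schemeEquiv sq.ptA).injective hw
  obtain ⟨φ, hφ, hcomm, hφc⟩ := exists_local_map (B := B) (L := L) i (c' ≫ hh.left) hgen hcl
  let e : sq.DomExt := { A' := B, K' := L, φ := φ, ψ := i, comm := hcomm, isLocalHom := hφ }
  let k : e.ptA' ⟶ W := Over.homMk c' (by
    show c' ≫ W.hom = Spec.map (CommRingCat.ofHom φ) ≫ sq.str
    rw [hφc, Category.assoc]
    exact congrArg (fun t => c' ≫ t) (Over.w hh).symm)
  refine ⟨e, hfs, (yon S).map k ≫ c ≫ fst, ?_, ?_⟩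
  · let m' : e.ptK' ⟶ V := Over.homMk m (by
      show m ≫ V.hom = Spec.map _ ≫ Spec.map (CommRingCat.ofHom φ) ≫ sq.str
      rw [← Over.w q, reassoc_of% hmi]
      show Spec.map _ ≫ Spec.map _ ≫ sq.str = _
      rw [← Category.assoc, ← hgen, hφc, Category.assoc, Category.assoc])
    rw [← Functor.map_comp_assoc, show (Over.homMk (Spec.map (CommRingCat.ofHom (algebraMap e.A' e.K'))) rfl :
      e.ptK' ⟶ e.ptA') ≫ k = m' ≫ p from Over.OverMorphism.ext hc'm, Functor.map_comp, Category.assoc,
      reassoc_of% sqV.w, sqP.lift_fst, ← Functor.map_comp_assoc]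
    exact congrArg (fun t => (yon S).map t ≫ sq.top) (Over.OverMorphism.ext hmi)
  · rw [Category.assoc, Category.assoc, sqP.w, ← reassoc_of% hhh, ← Functor.map_comp_assoc]
    exact congrArg (fun t => (yon S).map t ≫ sq.bot) (Over.OverMorphism.ext hφc.symm)

/-- closed base change gives a point of the closure over the closed point -/
theorem exists_specialization {X Y : Sp S} {f : X ⟶ Y} (hc : IsUnivClosedMor f) (sq : ValSq f)
    {P : Sp S} {fst : P ⟶ X} {snd : P ⟶ (yon S).obj sq.ptA} (sqP : IsPullback fst snd f sq.bot) :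
    ∃ p : Points P, Points.map snd p = Points.ofScheme sq.ptA (closedPoint sq.A) ∧
      Points.ofPt (sqP.lift sq.top ((yon S).map sq.j) sq.comm) (closedPoint sq.K) ⤳ p := by
  let x₀ := Points.ofPt (sqP.lift sq.top ((yon S).map sq.j) sq.comm) (closedPoint sq.K)
  have hcl := hc (IsAlgSpace.yon_obj _) sq.bot fst snd sqP (closure {x₀}) isClosed_closure
  have hη : Points.ofScheme sq.ptA (sq.j.left (closedPoint sq.K)) ∈ Points.map snd '' closure {x₀} :=
    ⟨x₀, subset_closure rfl, by rw [Points.map_ofPt, sqP.lift_snd, ofScheme_map]⟩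
  obtain ⟨p, hp, hp'⟩ := hcl.stableUnderSpecialization
    ((specializes_closedPoint (R := sq.A) (sq.j.left (closedPoint sq.K))).map (Points.schemeHomeo sq.ptA).continuous) hη
  exact ⟨p, hp', specializes_iff_mem_closure.2 hp⟩

theorem exists_lift_of_specialization {X Y : Sp S} (hX : IsAlgSpace X) (hY : IsAlgSpace Y) (f : X ⟶ Y)
    (hqs : IsQuasiSeparatedMor f) (sq : ValSq f)
    (hsp : ∀ (P : Sp S) (fst : P ⟶ X) (snd : P ⟶ (yon S).obj sq.ptA) (sqP : IsPullback fst snd f sq.bot),
      ∃ pt : Points P, Points.map snd pt = Points.ofScheme sq.ptA (closedPoint sq.A) ∧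
        Points.ofPt (sqP.lift sq.top ((yon S).map sq.j) sq.comm) (closedPoint sq.K) ⤳ pt) :
    ∃ e : sq.DomExt, (letI := e.ψ.toAlgebra; Module.Finite sq.K e.K' ∧ Algebra.IsSeparable sq.K e.K') ∧
      e.HasLift := by
  have sqP := IsPullback.of_hasPullback f sq.bot
  have hP : IsAlgSpace (pullback f sq.bot) := isAlgSpace_of_isPullback_space hY hX (IsAlgSpace.yon_obj _) sqP
  have hd : RepWith @QuasiCompact (pullback.diagonal (pullback.snd f sq.bot)) :=
    isQuasiSeparatedMor_baseChange sqP hqs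
  obtain ⟨pt, hpt, hxp⟩ := hsp _ _ _ sqP
  obtain ⟨U, π, ι, O, hπ, hπs, hO, -, hOcov⟩ := exists_affine_chart_family hP
  obtain ⟨u, rfl⟩ := ofPt_surjective hπs pt
  obtain ⟨k, hk⟩ := hOcov u
  let W : Over S := Over.mk ((O k).ι ≫ U.hom)
  let inc : W ⟶ U := Over.homMk (O k).ι rfl
  obtain ⟨c, hcdef⟩ : ∃ c, c = (yon S).map inc ≫ π := ⟨_, rfl⟩
  have hce : RepWith @Etale c := hcdef ▸
    repWith_comp ((repWith_yon_iff _).2 (show Etale (O k).ι from inferInstance)) hπ
  have hcw : Points.ofPt c (⟨u, hk⟩ : ↥(O k)) = Points.ofPt π u := by rw [hcdef, ofPt_comp]; rfl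
  refine exists_lift_of_chart hX hY sq sqP c hce (w := ⟨u, hk⟩) (by rw [hcw]; exact hpt) (hcw ▸ hxp)
    (finite_fibre hP hce _ fun V p q sqV => ?_)
  let x := sqP.lift sq.top ((yon S).map sq.j) sq.comm
  obtain ⟨hh, hhh⟩ := exists_map_eq (c ≫ pullback.snd f sq.bot)
  have : IsAffine W.left := (hO k : IsAffine (O k).toScheme)
  have : IsAffine sq.ptA.left := inferInstanceAs (IsAffine (Spec (CommRingCat.of sq.A)))
  have : IsAffine sq.ptK.left := inferInstanceAs (IsAffine (Spec (CommRingCat.of sq.K)))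
  let W' : Over S := Over.mk (pullback.fst hh.left sq.j.left ≫ W.hom)
  let a₁ : W' ⟶ W := Over.homMk (pullback.fst hh.left sq.j.left) rfl
  let a₂ : W' ⟶ sq.ptK := Over.homMk (pullback.snd hh.left sq.j.left) (by
    show _ ≫ sq.ptK.hom = pullback.fst hh.left sq.j.left ≫ W.hom
    rw [← Over.w hh, ← Over.w sq.j, pullback.condition_assoc])
  have haj : a₁ ≫ hh = a₂ ≫ sq.j := Over.OverMorphism.ext pullback.condition
  obtain ⟨R, fr, r, sqR, hr⟩ := exists_repWith hd (pullback.lift ((yon S).map a₁ ≫ c) ((yon S).map a₂ ≫ x) (by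
    rw [Category.assoc, Category.assoc, ← hhh, sqP.lift_snd, ← Functor.map_comp, ← Functor.map_comp, haj]))
  have : QuasiCompact r.left := hr
  have : IsAffine W'.left := inferInstanceAs (IsAffine (pullback hh.left sq.j.left))
  have : CompactSpace R.left := QuasiCompact.compactSpace_of_compactSpace r.left
  have hr₁ : (yon S).map r ≫ (yon S).map a₁ ≫ c = fr := by
    have := congrArg (fun t => t ≫ pullback.fst _ _) sqR.w
    simpa using this.symm
  have hr₂ : (yon S).map r ≫ (yon S).map a₂ ≫ x = fr := by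
    have := congrArg (fun t => t ≫ pullback.snd _ _) sqR.w
    simpa using this.symm
  obtain ⟨β, hβ⟩ := exists_map_eq (sqV.lift ((yon S).map (r ≫ a₁)) ((yon S).map (r ≫ a₂)) (by
    rw [Functor.map_comp, Functor.map_comp, Category.assoc, Category.assoc]
    exact hr₁.trans hr₂.symm))
  let γ₀ : V ⟶ W' := Over.homMk (pullback.lift p.left q.left (congrArg (fun t => t.left)
      (show p ≫ hh = q ≫ sq.j from (yon S).map_injective (by
        rw [Functor.map_comp, Functor.map_comp, hhh, ← Category.assoc, sqV.w, Category.assoc, sqP.lift_snd]))))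
    ((pullback.lift_fst_assoc _ _ _ _).trans (Over.w p))
  have hγ₁ : γ₀ ≫ a₁ = p := Over.OverMorphism.ext (pullback.lift_fst _ _ _)
  have hγ₂ : γ₀ ≫ a₂ = q := Over.OverMorphism.ext (pullback.lift_snd _ _ _)
  obtain ⟨γ, hγ⟩ := exists_map_eq (sqR.lift ((yon S).map p ≫ c) ((yon S).map γ₀) (by
    apply pullback.hom_ext
    · simp [← Functor.map_comp_assoc, hγ₁]
    · simp only [Category.assoc, pullback.diagonal_snd, pullback.lift_snd, Category.comp_id,
        ← Functor.map_comp_assoc, hγ₂]
      exact sqV.w))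
  have hγr : γ ≫ r = γ₀ := (yon S).map_injective (by rw [Functor.map_comp, hγ, sqR.lift_snd])
  have hid : γ ≫ β = 𝟙 V := (yon S).map_injective (by
    rw [Functor.map_comp, (yon S).map_id]
    apply sqV.hom_ext
    · rw [Category.assoc, hβ, sqV.lift_fst, Category.id_comp, ← Functor.map_comp, reassoc_of% hγr, hγ₁]
    · rw [Category.assoc, hβ, sqV.lift_snd, Category.id_comp, ← Functor.map_comp, reassoc_of% hγr, hγ₂])
  have hsurj : Function.Surjective β.left := fun z =>
    ⟨γ.left z, congr($(hid).left z)⟩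
  exact ⟨hsurj.range_eq ▸ isCompact_range β.left.continuous⟩

theorem existVC_of_univClosed_quasiSeparated {X Y : Sp S} (hX : IsAlgSpace X) (hY : IsAlgSpace Y) (f : X ⟶ Y)
    (hqs : IsQuasiSeparatedMor f) (hc : IsUnivClosedMor f) (sq : ValSq f) :
    ∃ e : sq.DomExt, (letI := e.ψ.toAlgebra; Module.Finite sq.K e.K' ∧ Algebra.IsSeparable sq.K e.K') ∧
      e.HasLift :=
  exists_lift_of_specialization hX hY f hqs sq fun _ _ _ sqP => exists_specialization hc sq sqP

theorem existVC_of_univClosed_decentMor {X Y : Sp S} (hX : IsAlgSpace X) (hY : IsAlgSpace Y) (f : X ⟶ Y)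
    (hd : IsDecentMor f) (hc : IsUnivClosedMor f) (sq : ValSq f) :
    ∃ e : sq.DomExt, (letI := e.ψ.toAlgebra; Module.Finite sq.K e.K' ∧ Algebra.IsSeparable sq.K e.K') ∧
      e.HasLift := by
  have sqP := IsPullback.of_hasPullback f sq.bot
  have hP : IsAlgSpace (pullback f sq.bot) := isAlgSpace_of_isPullback_space hY hX (IsAlgSpace.yon_obj _) sqP
  obtain ⟨pt, hpt, hxp⟩ := exists_specialization hc sq sqP
  obtain ⟨U, π, ι, O, hπ, hπs, hO, -, hOcov⟩ := exists_affine_chart_family hP
  obtain ⟨u, rfl⟩ := ofPt_surjective hπs pt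
  obtain ⟨k, hk⟩ := hOcov u
  let W : Over S := Over.mk ((O k).ι ≫ U.hom)
  let inc : W ⟶ U := Over.homMk (O k).ι rfl
  obtain ⟨c, hcdef⟩ : ∃ c, c = (yon S).map inc ≫ π := ⟨_, rfl⟩
  have hce : RepWith @Etale c := hcdef ▸
    repWith_comp ((repWith_yon_iff _).2 (show Etale (O k).ι from inferInstance)) hπ
  have hcw : Points.ofPt c (⟨u, hk⟩ : ↥(O k)) = Points.ofPt π u := by rw [hcdef, ofPt_comp]; rfl
  refine exists_lift_of_chart hX hY sq sqP c hce (w := ⟨u, hk⟩) (by rw [hcw]; exact hpt) (hcw ▸ hxp) ?_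
  obtain ⟨p₀, hp₀, -, hq₀⟩ := hd sq.bot (pullback.fst _ _) (pullback.snd _ _) sqP
    (Points.ofPt (sqP.lift sq.top ((yon S).map sq.j) sq.comm) (closedPoint sq.K))
  rw [← hp₀, mk_eq_ofPt]
  refine finite_fibre hP hce (fieldHom p₀) fun V p q sqV => ?_
  have : IsAffine W.left := (hO k : IsAffine (O k).toScheme)
  have hp : QuasiCompact p.left := hq₀.2 c _ p sqV.flip
  exact QuasiCompact.compactSpace_of_compactSpace p.left

end Groth.Agent.ValLib
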