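import Groth.Agent.ValLib.DenseMain

/-!
# Valuative squares with generic point in a piece of finite type, from discrete valuation rings
-/

universe u

open CategoryTheory CategoryTheory.Limits AlgebraicGeometry Opposite IsLocalRing TensorProduct

set_option backward.isDefEq.respectTransparency false

namespace Groth.Agent.ValLib

open _root_.AlgSp Groth.Agent.AlgSpLib

variable {S : Scheme.{u}}

/-- a point over a specialization of the image, from discrete valuation rings -/
theorem exists_point_over_of_dvr {W U : Sp S} (hU : IsAlgSpace U) {Z : Over S} [IsLocallyNoetherian Z.left]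
    (g : W ⟶ (yon S).obj Z) {h : U ⟶ W} (hl : LocP @LocallyOfFiniteType (h ≫ g))
    (hv : ∀ sq : ValSq g, IsDiscreteValuationRing sq.A → (∃ t : (yon S).obj sq.ptK ⟶ U, t ≫ h = sq.top) →
      sq.HasLiftExt)
    (y : Points U) (η p : Z.left) (hy : Points.map (h ≫ g) y = Points.ofScheme Z η) (hp : η ⤳ p) :
    ∃ t₀ : Points W, Points.map h y ⤳ t₀ ∧ Points.map g t₀ = Points.ofScheme Z p := by
  obtain ⟨V, π, hπ, hπs⟩ := hU.atlas
  obtain ⟨u, rfl⟩ := ofPt_surjective hπs y
  obtain ⟨hV, hhV⟩ := exists_map_eq (π ≫ h ≫ g)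
  have : LocallyOfFiniteType hV.left := hl π (𝟙 _) hV hπ repWith_id' (by rw [Category.comp_id, hhV])
  have hη : hV.left u = η := (Points.schemeEquiv Z).injective (by
    show Points.ofScheme Z (hV.left u) = Points.ofScheme Z η
    rw [← hy, Points.map_ofPt, ← hhV, ofScheme_map])
  by_cases hne : p = hV.left u
  · refine ⟨Points.map h (Points.ofPt π u), specializes_rfl, ?_⟩
    rw [← Points.map_comp, hy, hne, hη]
  obtain ⟨A, β, hAd, hβ, hw⟩ := DvrDom.exists_dvr_through hV.left u p (hη ▸ hp) hne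
  let ptA : Over S := Over.mk (β ≫ Z.hom)
  let ptK : Over S := Over.mk (Spec.map (CommRingCat.ofHom (algebraMap A (V.left.residueField u))) ≫ β ≫ Z.hom)
  have w : V.left.fromSpecResidueField u ≫ hV.left =
      Spec.map (CommRingCat.ofHom (algebraMap A (V.left.residueField u))) ≫ β := hw.symm
  let k : ptK ⟶ V := Over.homMk (V.left.fromSpecResidueField u) (by
    show V.left.fromSpecResidueField u ≫ V.hom = _ ≫ β ≫ Z.hom
    rw [← Over.w hV, reassoc_of% w])
  let b : ptA ⟶ Z := Over.homMk β rfl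
  have comm : ((yon S).map k ≫ π ≫ h) ≫ g = (yon S).map (Over.homMk (Spec.map (CommRingCat.ofHom
      (algebraMap A (V.left.residueField u)))) rfl : ptK ⟶ ptA) ≫ (yon S).map b := by
    rw [Category.assoc, Category.assoc, ← hhV, ← Functor.map_comp, ← Functor.map_comp]
    congr 1
    exact Over.OverMorphism.ext w
  let sq : ValSq g :=
    { A := A, K := V.left.residueField u, str := β ≫ Z.hom, top := (yon S).map k ≫ π ≫ h, bot := (yon S).map b,
      comm := comm }
  obtain ⟨e, l, hl₁, hl₂⟩ := hv sq hAd ⟨(yon S).map k ≫ π, Category.assoc _ _ _⟩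
  let gen : e.ptK' ⟶ e.ptA' := Over.homMk (Spec.map (CommRingCat.ofHom (algebraMap e.A' e.K'))) rfl
  let η' : ↥e.ptA'.left := gen.left (closedPoint e.K')
  let c₀ : ↥e.ptA'.left := closedPoint e.A'
  have hgen : Points.ofPt l η' = Points.map h (Points.ofPt π u) := by
    rw [← ofPt_comp gen l, show (yon S).map gen ≫ l = _ from hl₁, ofPt_comp]
    change Points.ofPt ((yon S).map k ≫ π ≫ h) _ = _
    rw [ofPt_comp, Points.map_ofPt]
    exact congrArg (Points.ofPt (π ≫ h)) (Scheme.fromSpecResidueField_apply _ _)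
  refine ⟨Points.ofPt l c₀, hgen ▸ (specializes_closedPoint _).map (Points.continuous_ofPt l), ?_⟩
  rw [Points.map_ofPt, hl₂, ofPt_comp]
  show Points.ofPt ((yon S).map b) _ = _
  rw [ofScheme_map]
  refine congrArg (Points.ofScheme Z) ?_
  have := e.isLocalHom
  have h1 : Spec.map (CommRingCat.ofHom e.φ) (closedPoint e.A') = closedPoint A := comap_closedPoint e.φ
  show β (Spec.map (CommRingCat.ofHom e.φ) (closedPoint e.A')) = p
  rw [h1, hβ]

/-- squares lifting from the source piece after base change -/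
theorem dvrFrom_of_isPullback {U U' X Y P Q : Sp S} {g : X ⟶ Y} {b : Q ⟶ Y} {fst : P ⟶ X} {snd : P ⟶ Q}
    (sqP : IsPullback fst snd g b) {h : U ⟶ X} {u : U' ⟶ U} {h' : U' ⟶ P} (w : u ≫ h = h' ≫ fst)
    (hv : ∀ sq : ValSq g, IsDiscreteValuationRing sq.A → (∃ t : (yon S).obj sq.ptK ⟶ U, t ≫ h = sq.top) →
      sq.HasLiftExt) (sq : ValSq snd) (hd : IsDiscreteValuationRing sq.A)
    (ht : ∃ t : (yon S).obj sq.ptK ⟶ U', t ≫ h' = sq.top) : sq.HasLiftExt := by
  obtain ⟨t, ht⟩ := ht
  refine hasLiftExt_of_sqDown sqP sq (hv _ hd ⟨t ≫ u, ?_⟩)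
  show (t ≫ u) ≫ h = sq.top ≫ fst
  rw [Category.assoc, w, ← Category.assoc, ht]

set_option maxHeartbeats 800000 in
/-- the closure of a generic point from `U` meets the closed fibre, over a Noetherian ring -/
theorem exists_specialization_of_dvr {X U : Sp S} (hX : IsAlgSpace X) (hU : IsAlgSpace U)
    {R C : Type u} [CommRing R] [IsNoetherianRing R] [CommRing C] [Algebra R C]
    (str : Spec (CommRingCat.of R) ⟶ S) (g : X ⟶ (yon S).obj (Over.mk str))
    (π : (yon S).obj (algPt str C) ⟶ X) (hπ : RepWith @Etale π) (hπs : RepWith @Surjective π)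
    (hh : π ≫ g = (yon S).map (Over.homMk (Spec.map (CommRingCat.ofHom (algebraMap R C))) rfl :
      algPt str C ⟶ Over.mk str))
    (hl : LocP @LocallyOfFiniteType g) {h : U ⟶ X} (hhl : LocP @LocallyOfFiniteType h)
    (hv : ∀ sq : ValSq g, IsDiscreteValuationRing sq.A → (∃ t : (yon S).obj sq.ptK ⟶ U, t ≫ h = sq.top) →
      sq.HasLiftExt)
    {A K : Type u} [CommRing A] [IsDomain A] [ValuationRing A] [Field K] [Algebra A K] [IsFractionRing A K]
    [Algebra R A] (j : Over.mk (Spec.map (CommRingCat.ofHom (algebraMap A K)) ≫ (algPt str A).hom) ⟶ algPt str A)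
    (hj : j.left = Spec.map (CommRingCat.ofHom (algebraMap A K)))
    (t : (yon S).obj (Over.mk (Spec.map (CommRingCat.ofHom (algebraMap A K)) ≫ (algPt str A).hom)) ⟶ U)
    {P : Sp S} {fst : P ⟶ X} {snd : P ⟶ (yon S).obj (algPt str A)}
    (sqP : IsPullback fst snd g ((yon S).map (Over.homMk (Spec.map (CommRingCat.ofHom (algebraMap R A))) rfl :
      algPt str A ⟶ Over.mk str)))
    (x : (yon S).obj (Over.mk (Spec.map (CommRingCat.ofHom (algebraMap A K)) ≫ (algPt str A).hom)) ⟶ P)
    (hx₁ : x ≫ fst = t ≫ h) (hx₂ : x ≫ snd = (yon S).map j) :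
    ∃ pt : Points P, Points.map snd pt = Points.ofScheme (algPt str A) (closedPoint A) ∧
      Points.ofPt x (closedPoint K) ⤳ pt := by
  by_contra hno
  push Not at hno
  obtain ⟨c, hce, hcs, hc2, hc1, sqc⟩ := exists_chart_baseChange str g π hπ hπs hh A sqP
  let x₀ : Points P := Points.ofPt x (closedPoint K)
  have hclosed : IsClosed (Points.ofPt c ⁻¹' closure {x₀}) := isClosed_closure.preimage (Points.continuous_ofPt c)
  obtain ⟨J, hJ⟩ := (PrimeSpectrum.isClosed_iff_zeroLocus_ideal _).1 hclosed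
  let p : PrimeSpectrum A := closedPoint A
  have hpt : ∀ q : ↥(algPt str (C ⊗[R] A)).left, Points.map snd (Points.ofPt c q) =
      Points.ofScheme (algPt str A)
        ((algPtMap str (Algebra.TensorProduct.includeRight : A →ₐ[R] C ⊗[R] A)).left q) := fun q => by
    rw [Points.map_ofPt, hc2, ofScheme_map]
  obtain ⟨B₀, hB₀, hempty⟩ := exists_fg_empty_fibre (R := R) (C := C) J p.asIdeal fun q hq hJq heq => by
    refine hno (Points.ofPt c (⟨q, hq⟩ : PrimeSpectrum (C ⊗[R] A))) ?_ (specializes_iff_mem_closure.2 ?_)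
    · rw [hpt]
      exact congrArg (Points.ofScheme (algPt str A)) (PrimeSpectrum.ext heq)
    · show (⟨q, hq⟩ : PrimeSpectrum (C ⊗[R] A)) ∈ Points.ofPt c ⁻¹' closure {x₀}
      rw [hJ]
      exact (PrimeSpectrum.mem_zeroLocus _ _).2 hJq
  have hB₀ft : Algebra.FiniteType R B₀ := (Subalgebra.fg_iff_finiteType B₀).1 hB₀
  have : IsNoetherianRing B₀ := Algebra.FiniteType.isNoetherianRing R B₀
  have : IsLocallyNoetherian (algPt str B₀).left :=
    inferInstanceAs (IsLocallyNoetherian (Spec (CommRingCat.of B₀)))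
  let γ₀ : algPt str B₀ ⟶ Over.mk str := Over.homMk (Spec.map (CommRingCat.ofHom (algebraMap R B₀))) rfl
  have sq₀ := IsPullback.of_hasPullback g ((yon S).map γ₀)
  obtain ⟨c₀, hc₀e, hc₀s, hc₀2, hc₀1, sqc₀⟩ := exists_chart_baseChange str g π hπ hπs hh B₀ sq₀
  let δ : algPt str A ⟶ algPt str B₀ := algPtMap str B₀.val
  have hδ : δ ≫ γ₀ = (Over.homMk (Spec.map (CommRingCat.ofHom (algebraMap R A))) rfl :
      algPt str A ⟶ Over.mk str) := Over.OverMorphism.ext (by
    show Spec.map _ ≫ Spec.map _ = Spec.map _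
    rw [← Spec.map_comp, ← CommRingCat.ofHom_comp]
    rfl)
  let ρ : P ⟶ pullback g ((yon S).map γ₀) := sq₀.lift fst (snd ≫ (yon S).map δ) (by
    rw [Category.assoc, ← Functor.map_comp, hδ, sqP.w])
  let tm : algPt str (C ⊗[R] A) ⟶ algPt str (C ⊗[R] B₀) := algPtMap str (tMap B₀)
  have hlm : tm ≫ algPtMap str (Algebra.TensorProduct.includeLeft : C →ₐ[R] C ⊗[R] B₀) =
      algPtMap str Algebra.TensorProduct.includeLeft := by
    rw [algPtMap_comp]
    exact congrArg (algPtMap str) (AlgHom.ext fun x => rfl)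
  have hr : tm ≫ algPtMap str (Algebra.TensorProduct.includeRight : B₀ →ₐ[R] C ⊗[R] B₀) =
      algPtMap str Algebra.TensorProduct.includeRight ≫ δ := by
    rw [algPtMap_comp, algPtMap_comp]
    exact congrArg (algPtMap str) (AlgHom.ext fun x => rfl)
  have sqρ : IsPullback ((yon S).map tm) c c₀ ρ := by
    refine IsPullback.of_right ?_ ?_ sqc₀
    · rw [← Functor.map_comp, hlm, sq₀.lift_fst]
      exact sqc
    · apply sq₀.hom_ext
      · rw [Category.assoc, hc₀1, ← Functor.map_comp_assoc, hlm, Category.assoc, sq₀.lift_fst, hc1]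
      · rw [Category.assoc, hc₀2, Category.assoc, sq₀.lift_snd, ← Category.assoc, hc2, ← Functor.map_comp,
          ← Functor.map_comp, hr]
  -- the piece over the finitely generated subalgebra
  have hP₀ : IsAlgSpace (pullback g ((yon S).map γ₀)) :=
    isAlgSpace_of_isPullback_space (IsAlgSpace.yon_obj _) hX (IsAlgSpace.yon_obj _) sq₀
  have sqU := IsPullback.of_hasPullback h (pullback.fst g ((yon S).map γ₀))
  have hU₀ : IsAlgSpace (pullback h (pullback.fst g ((yon S).map γ₀))) :=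
    isAlgSpace_of_isPullback_space hX hU hP₀ sqU
  let tU := sqU.lift t (x ≫ ρ) (by rw [Category.assoc, sq₀.lift_fst, hx₁])
  let y := Points.ofPt tU (closedPoint K)
  let η : ↥(algPt str B₀).left := δ.left (j.left (closedPoint K))
  have hρx : Points.map ρ x₀ = Points.map (pullback.snd h (pullback.fst g ((yon S).map γ₀))) y := by
    rw [Points.map_ofPt, Points.map_ofPt, sqU.lift_snd]
  have hsnd : Points.map (pullback.snd g ((yon S).map γ₀)) (Points.map ρ x₀) = Points.ofScheme _ η := by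
    rw [← Points.map_comp, sq₀.lift_snd, Points.map_ofPt, ← Category.assoc, hx₂, ← Functor.map_comp, ofScheme_map]
    rfl
  obtain ⟨t₀, ht₀, ht₀z⟩ := exists_point_over_of_dvr hU₀ (pullback.snd g ((yon S).map γ₀))
    (h := pullback.snd h (pullback.fst g ((yon S).map γ₀)))
    (locP_comp etST_lft hP₀ (IsAlgSpace.yon_obj _) (locP_baseChange etST_lft hU hX hU₀ hP₀ sqU hhl)
      (locP_baseChange etST_lft hX (IsAlgSpace.yon_obj _) hP₀ (IsAlgSpace.yon_obj _) sq₀ hl))
    (dvrFrom_of_isPullback sq₀ sqU.w hv) y η (δ.left (closedPoint A))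
    (by rw [Points.map_comp, ← hρx, hsnd]) (by
      refine Specializes.map ?_ δ.left.continuous
      rw [hj]
      exact generic_specializes _)
  rw [← hρx] at ht₀
  obtain ⟨q₀, rfl⟩ := ofPt_surjective hc₀s t₀
  let q₀' : PrimeSpectrum (C ⊗[R] B₀) := q₀
  have h2 := (isOpenMap_ofPt (repWith_universallyOpen_of_etale hc₀e)).preimage_closure_subset_closure_preimage
    (show q₀ ∈ Points.ofPt c₀ ⁻¹' closure {Points.map ρ x₀} from specializes_iff_mem_closure.1 ht₀)
  have h3 : Points.ofPt c₀ ⁻¹' {Points.map ρ x₀} ⊆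
      PrimeSpectrum.zeroLocus ((J.comap (tMap B₀).toRingHom : Ideal (C ⊗[R] B₀)) : Set (C ⊗[R] B₀)) := by
    intro u₀ htu
    obtain ⟨pu, hpu₁, hpu₂⟩ := exists_point_of_isPullback sqρ (Points.ofScheme _ u₀) x₀ (by
      rw [← show Points.ofPt c₀ u₀ = Points.map ρ x₀ from htu]
      exact (Points.ofPt_eq_map_ofScheme c₀ u₀).symm)
    obtain ⟨u', rfl⟩ := (Points.schemeEquiv (algPt str (C ⊗[R] A))).surjective pu
    have e1 : Points.ofPt c u' = x₀ := (Points.ofPt_eq_map_ofScheme c u').trans hpu₂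
    have e2 : tm.left u' = u₀ := (Points.schemeEquiv (algPt str (C ⊗[R] B₀))).injective (by
      refine Eq.trans ?_ hpu₁
      show Points.ofScheme _ (tm.left u') = Points.map ((yon S).map tm) (Points.ofPt (𝟙 _) u')
      rw [Points.map_ofPt, Category.id_comp, ofScheme_map])
    have hu' : u' ∈ Points.ofPt c ⁻¹' closure {x₀} := show Points.ofPt c u' ∈ closure {x₀} from
      e1 ▸ subset_closure rfl
    rw [hJ] at hu'
    rw [← e2]
    exact fun a ha => hu' ha
  have h4 : q₀ ∈ PrimeSpectrum.zeroLocus ((J.comap (tMap B₀).toRingHom : Ideal (C ⊗[R] B₀)) :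
      Set (C ⊗[R] B₀)) := closure_minimal h3 (PrimeSpectrum.isClosed_zeroLocus _) h2
  refine hempty q₀'.asIdeal q₀'.isPrime h4 ?_
  rw [Points.map_ofPt, hc₀2, ofScheme_map] at ht₀z
  exact congrArg PrimeSpectrum.asIdeal ((Points.schemeEquiv (algPt str B₀)).injective ht₀z)

/-- over a Noetherian affine scheme, general valuative squares from discrete ones -/
theorem hasLiftExt_of_dvr_affine {X U : Sp S} (hX : IsAlgSpace X) (hU : IsAlgSpace U)
    {R : Type u} [CommRing R] [IsNoetherianRing R] (str : Spec (CommRingCat.of R) ⟶ S)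
    (g : X ⟶ (yon S).obj (Over.mk str)) (hq : IsQuasiCompactMor g) (hqs : IsQuasiSeparatedMor g)
    (hl : LocP @LocallyOfFiniteType g) {h : U ⟶ X} (hhl : LocP @LocallyOfFiniteType h)
    (hv : ∀ sq : ValSq g, IsDiscreteValuationRing sq.A → (∃ t : (yon S).obj sq.ptK ⟶ U, t ≫ h = sq.top) →
      sq.HasLiftExt) : LiftsFrom g h := by
  have : CompactSpace (Over.mk str).left := inferInstanceAs (CompactSpace ↥(Spec (CommRingCat.of R)))
  have := compactSpace_of_isQuasiCompactSp (hq (IsAlgSpace.yon_obj _) (isQuasiCompactSp_yon _) (𝟙 _) (𝟙 X) g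
    (IsPullback.of_horiz_isIso ⟨by simp⟩))
  obtain ⟨U₁, π₀, hU₁, hπ₀, hπ₀s⟩ := exists_affine_chart_of_compact hX
  obtain ⟨h₀, hh₀⟩ := exists_map_eq (π₀ ≫ g)
  obtain ⟨C, _, i, _, hi⟩ := exists_algPt_iso str h₀
  obtain ⟨π, hπdef⟩ : ∃ π, π = (yon S).map i ≫ π₀ := ⟨_, rfl⟩
  have hπ : RepWith @Etale π := hπdef ▸ (repWith_iso_comp_iff _ _).2 hπ₀
  have hπs : RepWith @Surjective π := hπdef ▸ (repWith_iso_comp_iff _ _).2 hπ₀s
  have hh : π ≫ g = (yon S).map (Over.homMk (Spec.map (CommRingCat.ofHom (algebraMap R C))) rfl :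
      algPt str C ⟶ Over.mk str) := by
    rw [hπdef, Category.assoc, ← hh₀, ← Functor.map_comp, hi]
  intro sq ⟨t, ht⟩
  refine (exists_lift_of_specialization hX (IsAlgSpace.yon_obj _) g hqs sq ?_).imp fun _ h => h.2
  intro P fst snd sqP
  obtain ⟨A, K, strA, top, bot, comm⟩ := sq
  obtain ⟨β, rfl⟩ := exists_map_eq bot
  obtain ⟨α, hα⟩ := Spec.map_surjective (R := CommRingCat.of R) β.left
  let _ : Algebra R A := α.hom.toAlgebra
  obtain rfl : strA = Spec.map (CommRingCat.ofHom (algebraMap R A)) ≫ str :=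
    (Over.w β).symm.trans (congrArg (· ≫ str) hα.symm)
  obtain rfl : β = (Over.homMk (Spec.map (CommRingCat.ofHom (algebraMap R A))) rfl :
      algPt str A ⟶ Over.mk str) := Over.OverMorphism.ext hα.symm
  refine exists_specialization_of_dvr hX hU str g π hπ hπs hh hl hhl hv
    (Over.homMk (Spec.map (CommRingCat.ofHom (algebraMap A K))) rfl) rfl t sqP _ ?_ (sqP.lift_snd _ _ _)
  exact (sqP.lift_fst _ _ _).trans ht.symm

/-- general valuative squares with generic point in `U` from discrete ones over a locally Noetherian target -/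
theorem liftsFrom_of_dvr {U X Y : Sp S} (hU : IsAlgSpace U) (hX : IsAlgSpace X) (hY : IsAlgSpace Y) (g : X ⟶ Y)
    (hN : IsLocNoethSp Y) (hq : IsQuasiCompactMor g) (hqs : IsQuasiSeparatedMor g)
    (hl : LocP @LocallyOfFiniteType g) {h : U ⟶ X} (hhl : LocP @LocallyOfFiniteType h)
    (hv : ∀ sq : ValSq g, IsDiscreteValuationRing sq.A → (∃ t : (yon S).obj sq.ptK ⟶ U, t ≫ h = sq.top) →
      sq.HasLiftExt) : LiftsFrom g h := by
  intro sq ht
  obtain ⟨V, p, hpe, hps, hVN⟩ := hN
  obtain ⟨L, _, B, φ, ψ, O, hO, c, k, hφ, hcomm, hk, hkp⟩ := exists_local_lift (A := sq.A) (K := sq.K) hY sq.bot hpe hps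
  refine hasLiftExt_of_sqExt sq φ ψ hcomm hφ ?_
  obtain ⟨t, ht'⟩ := exists_top_sqExt sq φ ψ hcomm ht
  let str : Spec Γ(V.left, O) ⟶ S := hO.fromSpec ≫ V.hom
  let inc : Over.mk str ⟶ V := Over.homMk hO.fromSpec rfl
  have hbe : RepWith @Etale ((yon S).map inc ≫ p) :=
    repWith_comp ((repWith_yon_iff _).2 (inferInstanceAs (Etale hO.fromSpec))) hpe
  let k₀ : (sqExt sq φ ψ hcomm).ptA ⟶ Over.mk str := Over.homMk (c ≫ hO.isoSpec.hom) (by
    show (c ≫ hO.isoSpec.hom) ≫ hO.fromSpec ≫ V.hom = Spec.map (CommRingCat.ofHom φ) ≫ sq.str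
    rw [Category.assoc, IsAffineOpen.isoSpec_hom_fromSpec_assoc, ← Category.assoc, ← hk]
    exact Over.w k)
  have hk₀ : k₀ ≫ inc = k := Over.OverMorphism.ext (by
    show (c ≫ hO.isoSpec.hom) ≫ hO.fromSpec = k.left
    rw [Category.assoc, IsAffineOpen.isoSpec_hom_fromSpec, hk])
  have hkb : (yon S).map k₀ ≫ (yon S).map inc ≫ p = (sqExt sq φ ψ hcomm).bot := by
    rw [← Functor.map_comp_assoc, hk₀]
    exact hkp
  have sqP := IsPullback.of_hasPullback g ((yon S).map inc ≫ p)
  refine hasLiftExt_of_sqUp sqP (sqExt sq φ ψ hcomm) k₀ hkb ?_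
  have hP : IsAlgSpace (pullback g ((yon S).map inc ≫ p)) :=
    isAlgSpace_of_isPullback_space hY hX (IsAlgSpace.yon_obj _) sqP
  have sqU := IsPullback.of_hasPullback h (pullback.fst g ((yon S).map inc ≫ p))
  have hU' : IsAlgSpace (pullback h (pullback.fst g ((yon S).map inc ≫ p))) :=
    isAlgSpace_of_isPullback_space hX hU hP sqU
  have : IsNoetherianRing Γ(V.left, O) := IsLocallyNoetherian.component_noetherian ⟨O, hO⟩
  refine hasLiftExt_of_dvr_affine hP hU' str (pullback.snd g ((yon S).map inc ≫ p))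
    (fun _ _ hW hWq g' _ _ sqW => hq hW hWq (g' ≫ _) _ _ (sqW.paste_horiz sqP))
    (isQuasiSeparatedMor_baseChange sqP hqs) (locP_baseChange etST_lft hX hY hP (IsAlgSpace.yon_obj _) sqP hl)
    (locP_baseChange etST_lft hU hX hU' hP sqU hhl) (dvrFrom_of_isPullback sqP sqU.w hv) _
    ⟨sqU.lift t (sqUp sqP (sqExt sq φ ψ hcomm) k₀ hkb).top ?_, sqU.lift_snd _ _ _⟩
  exact ht'.trans (sqP.lift_fst _ _ _).symm

end Groth.Agent.ValLib

namespace Groth.Agent.ValLib

open _root_.AlgSp Groth.Agent.AlgSpLib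

variable {S : Scheme.{u}}

theorem isQuasiSeparatedMor_of_separated {X Y : Sp S} (f : X ⟶ Y) (hf : IsSeparatedMor f) :
    IsQuasiSeparatedMor f :=
  repWith_mono (fun _ _ r hr => by
    have : IsClosedImmersion r := hr
    infer_instance) hf

/-- separated from uniqueness for discrete valuation rings with generic point in a dense piece -/
theorem isSeparatedMor_of_dvr_dense {U X Y : Sp S} (hU : IsAlgSpace U) (hX : IsAlgSpace X) (hY : IsAlgSpace Y)
    (h : U ⟶ X) (f : X ⟶ Y) (hN : IsLocNoethSp Y) (hl : LocP @LocallyOfFiniteType f)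
    (hqs : IsQuasiSeparatedMor f) (hh : IsFiniteTypeMor h) (hd : DenseRange (Points.map h))
    (hu : ∀ sq : ValSq f, IsDiscreteValuationRing sq.A → (∃ t : (yon S).obj sq.ptK ⟶ U, t ≫ h = sq.top) →
      sq.HasUniq) : IsSeparatedMor f := by
  have sqP := IsPullback.of_hasPullback f f
  have hB : IsAlgSpace (pullback f f) := isAlgSpace_of_isPullback_space hY hX hX sqP
  obtain ⟨hm, hlΔ⟩ := repWith_diagonal_props hX f
  have hq : IsQuasiCompactMor (pullback.diagonal f) := (isQuasiCompactMor_iff_repWith hX hB hm.1).2 hqs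
  have hv : ∀ sq : ValSq (pullback.diagonal f), IsDiscreteValuationRing sq.A →
      (∃ t : (yon S).obj sq.ptK ⟶ U, t ≫ h = sq.top) → sq.HasLiftExt := by
    rintro sq hsd ⟨t, ht⟩
    have c1 : (yon S).map sq.j ≫ sq.bot ≫ pullback.fst f f = sq.top := by
      rw [← Category.assoc, ← sq.comm, Category.assoc, pullback.diagonal_fst, Category.comp_id]
    have c2 : (yon S).map sq.j ≫ sq.bot ≫ pullback.snd f f = sq.top := by
      rw [← Category.assoc, ← sq.comm, Category.assoc, pullback.diagonal_snd, Category.comp_id]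
    have e : sq.bot ≫ pullback.fst f f = sq.bot ≫ pullback.snd f f :=
      hu { A := sq.A, K := sq.K, str := sq.str, top := sq.top, bot := sq.bot ≫ pullback.fst f f ≫ f
           comm := by rw [← c1, Category.assoc, Category.assoc] } hsd ⟨t, ht⟩ _ _ c1 (Category.assoc _ _ _) c2
        ((Category.assoc _ _ _).trans (congrArg (sq.bot ≫ ·) pullback.condition.symm))
    refine hasLiftExt_of_hasLift ⟨sq.bot ≫ pullback.fst f f, c1, ?_⟩
    apply pullback.hom_ext
    · simp
    · simpa using e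
  exact (isSeparatedMor_iff_diagonal hX hY f).1.2 (isUnivClosedMor_of_dense hU hX hB _ hq hh.2 hd
    (liftsFrom_of_dvr hU hX hB _
      (isLocNoethSp_of_lft hB hX (pullback.fst f f) (locP_baseChange etST_lft hX hY hB hX sqP.flip hl)
        (isLocNoethSp_of_lft hX hY f hl hN))
      hq (isQuasiSeparatedMor_of_separated _ (UnivInjMor.isSeparatedMor_of_mono _))
      ((locP_iff_repWith etST_lft hB hm.1).2 hlΔ) hh.1 hv) uniqFrom_diagonal)

/-- proper from existence for discrete valuation rings with generic point in a dense piece -/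
theorem isProperMor_of_dvr_dense {U X Y : Sp S} (hU : IsAlgSpace U) (hX : IsAlgSpace X) (hY : IsAlgSpace Y)
    (h : U ⟶ X) (f : X ⟶ Y) (hN : IsLocNoethSp Y) (hs : IsSeparatedMor f) (hft : IsFiniteTypeMor f)
    (hh : IsFiniteTypeMor h) (hd : DenseRange (Points.map h))
    (hv : ∀ sq : ValSq f, IsDiscreteValuationRing sq.A → (∃ t : (yon S).obj sq.ptK ⟶ U, t ≫ h = sq.top) →
      sq.HasLiftExt) : IsProperMor f :=
  ⟨hs, hft, isUnivClosedMor_of_dense hU hX hY f hft.2 hh.2 hd
    (liftsFrom_of_dvr hU hX hY f hN hft.2 (isQuasiSeparatedMor_of_separated f hs) hft.1 hh.1 hv)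
    fun sq _ => uniqVC_of_separated f hs sq⟩

end Groth.Agent.ValLib
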