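import Groth.Agent.ValLib.NoethMain
import Groth.Agent.ValLib.EtLift

/-!
# Separated and proper morphisms by discrete valuation rings
-/

universe u

open CategoryTheory CategoryTheory.Limits AlgebraicGeometry Opposite IsLocalRing

set_option backward.isDefEq.respectTransparency false

namespace Groth.Agent.ValLib

open _root_.AlgSp Groth.Agent.AlgSpLib

variable {S : Scheme.{u}}

theorem dvrLift_diagonal {X Y : Sp S} {f : X ⟶ Y} (hu : ∀ sq : ValSq f, IsDiscreteValuationRing sq.A → sq.HasUniq)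
    (sq : ValSq (pullback.diagonal f)) (hd : IsDiscreteValuationRing sq.A) : sq.HasLiftExt := by
  have c1 : (yon S).map sq.j ≫ sq.bot ≫ pullback.fst f f = sq.top := by
    rw [← Category.assoc, ← sq.comm, Category.assoc, pullback.diagonal_fst, Category.comp_id]
  have c2 : (yon S).map sq.j ≫ sq.bot ≫ pullback.snd f f = sq.top := by
    rw [← Category.assoc, ← sq.comm, Category.assoc, pullback.diagonal_snd, Category.comp_id]
  have e : sq.bot ≫ pullback.fst f f = sq.bot ≫ pullback.snd f f :=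
    hu { A := sq.A, K := sq.K, str := sq.str, top := sq.top, bot := sq.bot ≫ pullback.fst f f ≫ f
         comm := by rw [← c1, Category.assoc, Category.assoc] } hd _ _ c1 (Category.assoc _ _ _) c2
      ((Category.assoc _ _ _).trans (congrArg (sq.bot ≫ ·) pullback.condition.symm))
  refine hasLiftExt_of_hasLift ⟨sq.bot ≫ pullback.fst f f, c1, ?_⟩
  apply pullback.hom_ext
  · simp
  · simpa using e

theorem isSeparatedMor_iff_dvr {X Y : Sp S} (hX : IsAlgSpace X) (hY : IsAlgSpace Y) (f : X ⟶ Y)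
    (hqs : IsQuasiSeparatedMor f) (hl : LocP @LocallyOfFiniteType f) (hN : IsLocNoethSp Y) :
    IsSeparatedMor f ↔ ∀ sq : ValSq f, IsDiscreteValuationRing sq.A → sq.HasUniq := by
  refine ⟨fun h sq _ => uniqVC_of_separated f h sq, fun hu => ?_⟩
  have sqP := IsPullback.of_hasPullback f f
  have hB : IsAlgSpace (pullback f f) := isAlgSpace_of_isPullback_space hY hX hX sqP
  obtain ⟨hm, hlΔ⟩ := repWith_diagonal_props hX f
  refine (isSeparatedMor_iff_diagonal hX hY f).1.2 (isUnivClosedMor_of_dvr hX hB _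
    ((isQuasiCompactMor_iff_repWith hX hB hm.1).2 hqs) ((locP_iff_repWith etST_lft hB hm.1).2 hlΔ) ?_
    (dvrLift_diagonal hu))
  exact isLocNoethSp_of_lft hB hX (pullback.fst f f) (locP_baseChange etST_lft hX hY hB hX sqP.flip hl)
    (isLocNoethSp_of_lft hX hY f hl hN)

theorem isProperMor_iff_dvr {X Y : Sp S} (hX : IsAlgSpace X) (hY : IsAlgSpace Y) (f : X ⟶ Y)
    (hqs : IsQuasiSeparatedMor f) (hft : IsFiniteTypeMor f) (hN : IsLocNoethSp Y) :
    IsProperMor f ↔ ∀ sq : ValSq f, IsDiscreteValuationRing sq.A → sq.HasLift ∧ sq.HasUniq := by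
  refine ⟨fun h sq _ => ⟨?_, uniqVC_of_separated f h.1 sq⟩, fun h => ?_⟩
  · obtain ⟨e, -, he⟩ := existVC_of_univClosed_quasiSeparated hX hY f hqs h.2.2 sq
    exact ValSep.hasLift_of_extension hX hY f h.1 sq e he
  · exact ⟨(isSeparatedMor_iff_dvr hX hY f hqs hft.1 hN).2 fun sq hd => (h sq hd).2, hft,
      isUnivClosedMor_of_dvr hX hY f hft.2 hft.1 hN fun sq hd => hasLiftExt_of_hasLift (h sq hd).1⟩

end Groth.Agent.ValLib
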