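import Groth.Agent.ValLib.Basic

/-!
# Representable morphisms: lifts descend along dominating extensions
-/

universe u

open CategoryTheory CategoryTheory.Limits AlgebraicGeometry Opposite IsLocalRing

set_option backward.isDefEq.respectTransparency false

namespace Groth.Agent.ValLib

open _root_.AlgSp Groth.Agent.AlgSpLib

/-- a field element which lands in a dominating valuation ring is integral -/
theorem exists_of_dominated {A A' K K' : Type u} [CommRing A] [IsDomain A] [ValuationRing A] [CommRing A']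
    [IsDomain A'] [Field K] [Field K'] [Algebra A K] [IsFractionRing A K] [Algebra A' K'] [IsFractionRing A' K']
    {φ : A →+* A'} (hφ : IsLocalHom φ) {ψ : K →+* K'} (comm : (algebraMap A' K').comp φ = ψ.comp (algebraMap A K))
    {x : K} {y : A'} (h : algebraMap A' K' y = ψ x) : ∃ a : A, algebraMap A K a = x := by
  rcases eq_or_ne x 0 with rfl | hx0
  · exact ⟨0, map_zero _⟩
  rcases (ValuationRing.iff_isInteger_or_isInteger A K).1 inferInstance x with ⟨a, ha⟩ | ⟨a, ha⟩
  · exact ⟨a, ha⟩
  have h1 : φ a * y = 1 := by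
    apply IsFractionRing.injective A' K'
    rw [map_mul, map_one, h, ← RingHom.comp_apply, comm, RingHom.comp_apply, ha, ← map_mul,
      inv_mul_cancel₀ hx0, map_one]
  obtain ⟨b, hb⟩ := (isUnit_of_map_unit φ a (IsUnit.of_mul_eq_one _ h1)).exists_right_inv
  refine ⟨b, ?_⟩
  have : x⁻¹ * algebraMap A K b = 1 := by rw [← ha, ← map_mul, hb, map_one]
  exact (inv_mul_eq_one₀ hx0).1 this |>.symm

theorem exists_descend_scheme {W : Scheme.{u}} {A A' K K' : Type u} [CommRing A] [IsDomain A] [ValuationRing A]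
    [CommRing A'] [IsDomain A'] [ValuationRing A'] [Field K] [Field K'] [Algebra A K] [IsFractionRing A K]
    [Algebra A' K'] [IsFractionRing A' K'] (φ : A →+* A') (ψ : K →+* K')
    (comm : (algebraMap A' K').comp φ = ψ.comp (algebraMap A K)) (hφ : IsLocalHom φ)
    (t : Spec (CommRingCat.of K) ⟶ W) (l : Spec (CommRingCat.of A') ⟶ W)
    (h : Spec.map (CommRingCat.ofHom (algebraMap A' K')) ≫ l = Spec.map (CommRingCat.ofHom ψ) ≫ t) :
    ∃ m : Spec (CommRingCat.of A) ⟶ W, Spec.map (CommRingCat.ofHom (algebraMap A K)) ≫ m = t ∧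
      Spec.map (CommRingCat.ofHom φ) ≫ m = l := by
  obtain ⟨V, hV, hc, -⟩ := TopologicalSpace.Opens.isBasis_iff_nbhd.mp W.isBasis_affineOpens
    (TopologicalSpace.Opens.mem_top (l (closedPoint A')))
  have hl : ∀ p, l p ∈ V := fun p => ((specializes_closedPoint p).map l.continuous).mem_open V.2 hc
  have ht : ∀ p, t p ∈ V := fun p => by
    have e : Spec.map (CommRingCat.ofHom ψ) (closedPoint K') = p := Subsingleton.elim (α := PrimeSpectrum K) _ _
    rw [← e, ← Scheme.Hom.comp_apply, ← h, Scheme.Hom.comp_apply]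
    exact hl _
  have hr : Set.range hV.fromSpec = (V : Set W) := hV.range_fromSpec
  let l₀ := IsOpenImmersion.lift hV.fromSpec l (by rw [hr]; rintro _ ⟨p, rfl⟩; exact hl p)
  let t₀ := IsOpenImmersion.lift hV.fromSpec t (by rw [hr]; rintro _ ⟨p, rfl⟩; exact ht p)
  obtain ⟨ρ, hρ⟩ := Spec.map_surjective l₀
  obtain ⟨τ, hτ⟩ := Spec.map_surjective t₀
  have e : ρ ≫ CommRingCat.ofHom (algebraMap A' K') = τ ≫ CommRingCat.ofHom ψ := Spec.map_injective (by
    rw [← cancel_mono hV.fromSpec, Spec.map_comp, Spec.map_comp, Category.assoc, Category.assoc, hρ, hτ,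
      IsOpenImmersion.lift_fac, IsOpenImmersion.lift_fac, h])
  choose σ hσ using fun r => exists_of_dominated hφ comm (x := τ.hom r) (y := ρ.hom r) congr($(e) r)
  let σ' : Γ(W, V) ⟶ CommRingCat.of A := CommRingCat.ofHom
    { toFun := σ
      map_one' := IsFractionRing.injective A K (by rw [hσ, map_one, map_one])
      map_mul' := fun a b => IsFractionRing.injective A K (by rw [map_mul (algebraMap A K), hσ, hσ, hσ, map_mul])
      map_zero' := IsFractionRing.injective A K (by rw [hσ, map_zero, map_zero])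
      map_add' := fun a b => IsFractionRing.injective A K (by rw [map_add (algebraMap A K), hσ, hσ, hσ, map_add]) }
  refine ⟨Spec.map σ' ≫ hV.fromSpec, ?_, ?_⟩
  · rw [← Spec.map_comp_assoc, show σ' ≫ CommRingCat.ofHom (algebraMap A K) = τ from CommRingCat.hom_ext
      (RingHom.ext hσ), hτ, IsOpenImmersion.lift_fac]
  · rw [← Spec.map_comp_assoc, show σ' ≫ CommRingCat.ofHom φ = ρ from CommRingCat.hom_ext (RingHom.ext fun r =>
      IsFractionRing.injective A' K' ((congr($(comm) (σ r))).trans
        ((congrArg ψ (hσ r)).trans congr($(e) r).symm))), hρ, IsOpenImmersion.lift_fac]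

variable {S : Scheme.{u}}

theorem hasLift_of_representable {X Y : Sp S} (f : X ⟶ Y) (hf : Representable f) (sq : ValSq f) (e : sq.DomExt)
    (he : e.HasLift) : sq.HasLift := by
  obtain ⟨l, hl₁, hl₂⟩ := he
  obtain ⟨W, fst, w, sqW⟩ := exists_isPullback_of_representable hf sq.bot
  obtain ⟨t, ht⟩ := exists_map_eq (sqW.lift sq.top ((yon S).map sq.j) sq.comm)
  obtain ⟨l', hl'⟩ := exists_map_eq (sqW.lift l ((yon S).map (Over.homMk (Spec.map (CommRingCat.ofHom e.φ)) rfl :
    e.ptA' ⟶ sq.ptA)) hl₂)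
  let gen : e.ptK' ⟶ e.ptA' := Over.homMk (Spec.map (CommRingCat.ofHom (algebraMap e.A' e.K'))) rfl
  let d : e.ptK' ⟶ sq.ptK := Over.homMk (Spec.map (CommRingCat.ofHom e.ψ)) (by
    change Spec.map _ ≫ Spec.map _ ≫ _ = Spec.map _ ≫ Spec.map _ ≫ _
    rw [← Spec.map_comp_assoc, ← Spec.map_comp_assoc, ← CommRingCat.ofHom_comp, ← CommRingCat.ofHom_comp, e.comm])
  have hd : gen ≫ (Over.homMk (Spec.map (CommRingCat.ofHom e.φ)) rfl : e.ptA' ⟶ sq.ptA) = d ≫ sq.j :=
    Over.OverMorphism.ext (by
      show Spec.map _ ≫ Spec.map _ = Spec.map _ ≫ Spec.map _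
      rw [← Spec.map_comp, ← Spec.map_comp, ← CommRingCat.ofHom_comp, ← CommRingCat.ofHom_comp, e.comm])
  have key : gen ≫ l' = d ≫ t := (yon S).map_injective (by
    rw [Functor.map_comp, Functor.map_comp, hl', ht]
    apply sqW.hom_ext
    · simp only [Category.assoc, IsPullback.lift_fst]
      exact hl₁
    · simp only [Category.assoc, IsPullback.lift_snd, ← Functor.map_comp, hd])
  obtain ⟨m, hm, -⟩ := exists_descend_scheme e.φ e.ψ e.comm e.isLocalHom t.left l'.left
    (congrArg (fun x => x.left) key)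
  have hmw : m ≫ w.left = 𝟙 _ := by
    have htw : t ≫ w = sq.j := (yon S).map_injective (by rw [Functor.map_comp, ht, IsPullback.lift_snd])
    obtain ⟨η, hη⟩ := Spec.map_surjective (m ≫ w.left)
    rw [← hη, ← Spec.map_id]
    congr 1
    refine CommRingCat.hom_ext (RingHom.ext fun a => IsFractionRing.injective sq.A sq.K ?_)
    have : η ≫ CommRingCat.ofHom (algebraMap sq.A sq.K) = CommRingCat.ofHom (algebraMap sq.A sq.K) :=
      Spec.map_injective (by
        rw [Spec.map_comp, hη, ← Category.assoc]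
        exact (congrArg (fun x => x ≫ w.left) hm).trans (congrArg (fun x => x.left) htw))
    exact congr($(this) a)
  let m' : sq.ptA ⟶ W := Over.homMk m (by rw [← Over.w w, reassoc_of% hmw])
  refine ⟨(yon S).map m' ≫ fst, ?_, ?_⟩
  · rw [← Functor.map_comp_assoc, show sq.j ≫ m' = t from Over.OverMorphism.ext hm, ht, IsPullback.lift_fst]
  · rw [Category.assoc, sqW.w, ← Functor.map_comp_assoc, show m' ≫ w = 𝟙 _ from Over.OverMorphism.ext hmw,
      (yon S).map_id, Category.id_comp]

end Groth.Agent.ValLib
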