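import Groth.Agent.ValLib.NoethMain
import Mathlib.AlgebraicGeometry.AffineSpace
import Mathlib.AlgebraicGeometry.Morphisms.Immersion

/-!
# Universally closed morphisms tested on affine spaces
-/

universe u

open CategoryTheory CategoryTheory.Limits AlgebraicGeometry Opposite IsLocalRing TensorProduct

set_option backward.isDefEq.respectTransparency false

namespace Groth.Agent.ValLib

open _root_.AlgSp Groth.Agent.AlgSpLib

variable {S : Scheme.{u}}

/-- closedness restricts along immersions of schemes into the base -/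
theorem isClosedMap_of_immersion {P P' : Sp S} {T A : Over S} {i : T ⟶ A} (hi : IsImmersion i.left)
    {snd : P ⟶ (yon S).obj A} {fst' : P' ⟶ P} {snd' : P' ⟶ (yon S).obj T}
    (sq : IsPullback fst' snd' snd ((yon S).map i)) (hP : IsAlgSpace P)
    (h : IsClosedMap (Points.map snd)) : IsClosedMap (Points.map snd') := by
  intro E hE
  have hfst : RepWith @IsImmersion fst' := repWith_baseChange sq.flip ((repWith_yon_iff i).2 hi)
  obtain ⟨U, c, hce, hcs⟩ := hP.atlas
  obtain ⟨U', c', r, sqU⟩ := exists_isPullback_of_representable hfst.1 c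
  have : IsImmersion r.left := hfst.2 c c' r sqU
  -- the closed subset cuts out `E`
  have hE' : ∀ x', Points.map fst' x' ∈ closure (Points.map fst' '' E) → x' ∈ E := by
    intro x' hx'
    obtain ⟨u, hu⟩ := ofPt_surjective hcs (Points.map fst' x')
    obtain ⟨pu, hpu₁, hpu₂⟩ := exists_point_of_isPullback sqU x' (Points.ofScheme U u) (by
      rw [← hu]
      exact Points.ofPt_eq_map_ofScheme c u)
    obtain ⟨u', rfl⟩ := (Points.schemeEquiv U').surjective pu
    have e1 : Points.ofPt c' u' = x' := (Points.ofPt_eq_map_ofScheme c' u').trans hpu₁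
    have e2 : r.left u' = u := (Points.schemeEquiv U).injective (by
      refine Eq.trans ?_ hpu₂
      show Points.ofScheme _ (r.left u') = Points.map ((yon S).map r) (Points.ofPt (𝟙 _) u')
      rw [Points.map_ofPt, Category.id_comp, ofScheme_map])
    have h2 := (isOpenMap_ofPt (repWith_universallyOpen_of_etale hce)).preimage_closure_subset_closure_preimage
      (show u ∈ Points.ofPt c ⁻¹' closure (Points.map fst' '' E) from Set.mem_preimage.2 (hu.symm ▸ hx'))
    have h3 : Points.ofPt c ⁻¹' (Points.map fst' '' E) ⊆ r.left '' (Points.ofPt c' ⁻¹' E) := by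
      rintro v ⟨y, hy, hyv⟩
      obtain ⟨pv, hpv₁, hpv₂⟩ := exists_point_of_isPullback sqU y (Points.ofScheme U v)
        (hyv.trans (Points.ofPt_eq_map_ofScheme c v))
      obtain ⟨v', rfl⟩ := (Points.schemeEquiv U').surjective pv
      refine ⟨v', ?_, (Points.schemeEquiv U).injective ?_⟩
      · show Points.ofPt c' v' ∈ E
        rw [show Points.ofPt c' v' = y from (Points.ofPt_eq_map_ofScheme c' v').trans hpv₁]
        exact hy
      · refine Eq.trans ?_ hpv₂
        show Points.ofScheme _ (r.left v') = Points.map ((yon S).map r) (Points.ofPt (𝟙 _) v')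
        rw [Points.map_ofPt, Category.id_comp, ofScheme_map]
    have h4 : u' ∈ closure (Points.ofPt c' ⁻¹' E) := by
      rw [r.left.isEmbedding.isInducing.closure_eq_preimage_closure_image]
      show r.left u' ∈ closure (r.left '' (Points.ofPt c' ⁻¹' E))
      rw [e2]
      exact closure_mono h3 h2
    rw [(hE.preimage (Points.continuous_ofPt c')).closure_eq] at h4
    exact e1 ▸ h4
  have him : Points.map snd' '' E = Points.map ((yon S).map i) ⁻¹'
      (Points.map snd '' closure (Points.map fst' '' E)) := by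
    ext z
    constructor
    · rintro ⟨x, hx, rfl⟩
      exact ⟨Points.map fst' x, subset_closure ⟨x, hx, rfl⟩, by rw [← Points.map_comp, sq.w, Points.map_comp]⟩
    · rintro ⟨p, hp, hpz⟩
      obtain ⟨x, hx₁, hx₂⟩ := exists_point_of_isPullback sq p z hpz
      exact ⟨x, hE' x (hx₁ ▸ hp), hx₂⟩
  rw [him]
  exact (h _ isClosed_closure).preimage (Points.continuous_map _)

/-- finite type algebras embed in affine space -/
theorem exists_immersion_affineSpace {V : Over S} {O : V.left.Opens} (hO : IsAffineOpen O) {B : Type u}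
    [CommRing B] [Algebra Γ(V.left, O) B] [Algebra.FiniteType Γ(V.left, O) B] :
    ∃ (n : ℕ) (i : algPt (hO.fromSpec ≫ V.hom) B ⟶
        Over.mk ((𝔸(ULift.{u} (Fin n); V.left) ↘ V.left) ≫ V.hom)),
      IsImmersion i.left ∧ i.left ≫ (𝔸(ULift.{u} (Fin n); V.left) ↘ V.left) =
        Spec.map (CommRingCat.ofHom (algebraMap Γ(V.left, O) B)) ≫ hO.fromSpec := by
  obtain ⟨n, q, hq⟩ := Algebra.FiniteType.iff_quotient_mvPolynomial''.1
    ‹Algebra.FiniteType Γ(V.left, O) B›
  let q' : MvPolynomial (ULift.{u} (Fin n)) Γ(V.left, O) →ₐ[Γ(V.left, O)] B :=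
    q.comp (MvPolynomial.rename ULift.down)
  have hq' : Function.Surjective q' :=
    hq.comp (MvPolynomial.rename_surjective _ ULift.down_surjective)
  let m : Spec (CommRingCat.of B) ⟶ 𝔸(ULift.{u} (Fin n); V.left) :=
    Spec.map (CommRingCat.ofHom q'.toRingHom) ≫ (AffineSpace.SpecIso (ULift.{u} (Fin n)) Γ(V.left, O)).inv ≫
      AffineSpace.map (ULift.{u} (Fin n)) hO.fromSpec
  have hm : m ≫ (𝔸(ULift.{u} (Fin n); V.left) ↘ V.left) =
      Spec.map (CommRingCat.ofHom (algebraMap Γ(V.left, O) B)) ≫ hO.fromSpec := by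
    simp only [m, Category.assoc, AffineSpace.map_over, AffineSpace.SpecIso_inv_over_assoc]
    rw [← Spec.map_comp_assoc, ← CommRingCat.ofHom_comp]
    exact congrArg (fun r => Spec.map (CommRingCat.ofHom r) ≫ hO.fromSpec) q'.comp_algebraMap
  refine ⟨n, Over.homMk m (by
    show m ≫ _ ≫ V.hom = _ ≫ _ ≫ V.hom
    rw [reassoc_of% hm]), ?_, hm⟩
  have : IsClosedImmersion (Spec.map (CommRingCat.ofHom q'.toRingHom)) :=
    IsClosedImmersion.spec_of_surjective _ hq'
  have : IsOpenImmersion (AffineSpace.map (ULift.{u} (Fin n)) hO.fromSpec) :=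
    MorphismProperty.of_isPullback (P := @IsOpenImmersion)
      (AffineSpace.isPullback_map (n := ULift.{u} (Fin n)) hO.fromSpec).flip inferInstance
  show IsImmersion m
  infer_instance

/-- closedness over all affine spaces of an atlas gives universal closedness -/
theorem isUnivClosedMor_of_affineSpace {X Y : Sp S} (hX : IsAlgSpace X) (hY : IsAlgSpace Y) (f : X ⟶ Y)
    (hqc : IsQuasiCompactMor f) {V : Over S} {p : (yon S).obj V ⟶ Y} (hpe : RepWith @Etale p)
    (hps : RepWith @Surjective p)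
    (H : ∀ (n : ℕ) (P : Sp S) (fst : P ⟶ X)
      (snd : P ⟶ (yon S).obj (Over.mk ((𝔸(ULift.{u} (Fin n); V.left) ↘ V.left) ≫ V.hom))),
      IsPullback fst snd f ((yon S).map (Over.homMk (𝔸(ULift.{u} (Fin n); V.left) ↘ V.left)) ≫ p) →
        IsClosedMap (Points.map snd)) : IsUnivClosedMor f := by
  let ι := {O : V.left.Opens // IsAffineOpen O}
  let str : ∀ O : ι, Spec Γ(V.left, O.1) ⟶ S := fun O => O.2.fromSpec ≫ V.hom
  let inc : ∀ O : ι, Over.mk (str O) ⟶ V := fun O => Over.homMk O.2.fromSpec rfl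
  let g : ∀ O : ι, (yon S).obj (Over.mk (str O)) ⟶ Y := fun O => (yon S).map (inc O) ≫ p
  have he : ∀ O, RepWith @Etale (g O) := fun O =>
    repWith_comp ((repWith_yon_iff _).2 (inferInstanceAs (Etale O.2.fromSpec))) hpe
  have hg : IsFpqcCover (fun O => (yon S).obj (Over.mk (str O))) g := by
    refine isFpqcCover_of_fppf hY (fun _ => IsAlgSpace.yon_obj _) ⟨fun O =>
      ⟨(locP_iff_repWith etST_flat hY (he O).1).2 (repWith_mono (fun _ _ r hr => by
          have : Etale r := hr
          infer_instance) (he O)),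
        (locP_iff_repWith etST_lfp hY (he O).1).2 (repWith_mono (fun _ _ r hr => by
          have : Etale r := hr
          infer_instance) (he O))⟩, fun x => ?_⟩
    obtain ⟨v, rfl⟩ := ofPt_surjective hps x
    obtain ⟨O, hO, hv', -⟩ := TopologicalSpace.Opens.isBasis_iff_nbhd.mp V.left.isBasis_affineOpens
      (TopologicalSpace.Opens.mem_top v)
    obtain ⟨w, hw⟩ : v ∈ Set.range hO.fromSpec := hO.range_fromSpec ▸ hv'
    exact ⟨⟨O, hO⟩, Points.ofScheme _ w, by
      rw [Points.map_ofPt, Category.id_comp, ofPt_comp]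
      exact congrArg (Points.ofPt p) hw⟩
  have sq := fun O => IsPullback.of_hasPullback f (g O)
  refine (isLocalOnBase_isUnivClosedMor _ g hY (fun _ => IsAlgSpace.yon_obj _) hg f hX _ _ _
    (fun O => isAlgSpace_of_isPullback_space hY hX (IsAlgSpace.yon_obj _) (sq O)) sq).2 fun O => ?_
  have hP : IsAlgSpace (pullback f (g O)) := isAlgSpace_of_isPullback_space hY hX (IsAlgSpace.yon_obj _) (sq O)
  have : CompactSpace (Over.mk (str O)).left := inferInstanceAs (CompactSpace ↥(Spec Γ(V.left, O.1)))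
  have := compactSpace_of_isQuasiCompactSp
    (hqc (IsAlgSpace.yon_obj _) (isQuasiCompactSp_yon _) (g O) _ _ (sq O))
  obtain ⟨U, π₀, hU, hπ₀, hπ₀s⟩ := exists_affine_chart_of_compact hP
  obtain ⟨h₀, hh₀⟩ := exists_map_eq (π₀ ≫ pullback.snd f (g O))
  obtain ⟨C, _, i, _, hi⟩ := exists_algPt_iso (str O) h₀
  obtain ⟨π, hπdef⟩ : ∃ π, π = (yon S).map i ≫ π₀ := ⟨_, rfl⟩
  have hπ : RepWith @Etale π := hπdef ▸ (repWith_iso_comp_iff _ _).2 hπ₀
  have hπs : RepWith @Surjective π := hπdef ▸ (repWith_iso_comp_iff _ _).2 hπ₀s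
  have hh : π ≫ pullback.snd f (g O) = (yon S).map (Over.homMk (Spec.map (CommRingCat.ofHom
      (algebraMap Γ(V.left, O.1) C))) rfl : algPt (str O) C ⟶ Over.mk (str O)) := by
    rw [hπdef, Category.assoc, ← hh₀, ← Functor.map_comp, hi]
  refine univSp_of_affine IsClosedMor (fun _ _ _ _ _ _ _ _ _ hb sq h => isClosedMap_of_fpqcCover sq hb h)
    (pullback.snd f (g O)) ?_
  intro Z' hZ' g' W fst' snd' sqW
  obtain ⟨γ, rfl⟩ := exists_map_eq g'
  obtain ⟨B, _, e, _, he'⟩ := exists_algPt_iso (str O) γ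
  have sqW' : IsPullback fst' (snd' ≫ inv ((yon S).map e)) (pullback.snd f (g O))
      ((yon S).map (Over.homMk (Spec.map (CommRingCat.ofHom (algebraMap Γ(V.left, O.1) B))) rfl :
        algPt (str O) B ⟶ Over.mk (str O))) := by
    refine sqW.of_iso (Iso.refl _) (Iso.refl _) (asIso ((yon S).map e)).symm (Iso.refl _) (by simp) (by simp)
      (by simp) ?_
    simp [← he']
  have hcl := isClosedMap_of_ft (str O) hP (pullback.snd f (g O)) π hπ hπs hh (fun B₀ _ _ hB₀ W₀ fst₀ snd₀ sq₀ => by
    obtain ⟨n, j, hj, hjp⟩ := exists_immersion_affineSpace (V := V) O.2 (B := B₀)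
    let pr : Over.mk ((𝔸(ULift.{u} (Fin n); V.left) ↘ V.left) ≫ V.hom) ⟶ V :=
      Over.homMk (𝔸(ULift.{u} (Fin n); V.left) ↘ V.left)
    have sqA := IsPullback.of_hasPullback f ((yon S).map pr ≫ p)
    have hjg : (yon S).map j ≫ (yon S).map pr ≫ p = (yon S).map (Over.homMk (Spec.map (CommRingCat.ofHom
        (algebraMap Γ(V.left, O.1) B₀))) rfl : algPt (str O) B₀ ⟶ Over.mk (str O)) ≫ g O := by
      rw [← Functor.map_comp_assoc, ← Functor.map_comp_assoc]
      exact congrArg (fun m => (yon S).map m ≫ p) (Over.OverMorphism.ext hjp)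
    have sq₁ : IsPullback (fst₀ ≫ pullback.fst f (g O)) snd₀ f ((yon S).map j ≫ (yon S).map pr ≫ p) := by
      rw [hjg]
      exact sq₀.paste_horiz (sq O)
    have sq₂ : IsPullback (sqA.lift (fst₀ ≫ pullback.fst f (g O)) (snd₀ ≫ (yon S).map j)
        (by rw [Category.assoc (snd₀)]; exact sq₁.w)) snd₀ (pullback.snd f ((yon S).map pr ≫ p))
        ((yon S).map j) :=
      IsPullback.of_right (by rw [sqA.lift_fst]; exact sq₁) (sqA.lift_snd _ _ _) sqA
    exact isClosedMap_of_immersion hj sq₂ (isAlgSpace_of_isPullback_space hY hX (IsAlgSpace.yon_obj _) sqA)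
      (H n _ _ _ sqA)) B sqW'
  have e1 : Points.map snd' = Points.map ((yon S).map e) ∘ Points.map (snd' ≫ inv ((yon S).map e)) := by
    funext x
    rw [Function.comp_apply, ← Points.map_comp, Category.assoc, IsIso.inv_hom_id, Category.comp_id]
  show IsClosedMap (Points.map snd')
  rw [e1]
  exact (isHomeomorph_map_of_isIso ((yon S).map e)).isClosedMap.comp hcl

end Groth.Agent.ValLib
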