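import Groth.Agent.ValLib.EtLift

/-!
# Finite separable extensions suffice in the existence part of the valuative criterion
-/

universe u

open CategoryTheory CategoryTheory.Limits AlgebraicGeometry Opposite IsLocalRing

set_option backward.isDefEq.respectTransparency false

namespace Groth.Agent.ValLib

open _root_.AlgSp Groth.Agent.AlgSpLib

variable {S : Scheme.{u}}

theorem exists_finSep_lift {X Y : Sp S} (hX : IsAlgSpace X) (hY : IsAlgSpace Y) {f : X ⟶ Y} (sq : ValSq f)
    (e₀ : sq.DomExt) (he : e₀.HasLift) :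
    ∃ e : sq.DomExt, (letI := e.ψ.toAlgebra; Module.Finite sq.K e.K' ∧ Algebra.IsSeparable sq.K e.K') ∧
      e.HasLift := by
  obtain ⟨l, hl₁, hl₂⟩ := he
  obtain ⟨U, π, hπ, hπs⟩ := hX.atlas
  obtain ⟨W, pU, qA, sqW⟩ := exists_pullback hX.diag π l
  have : Etale qA.left := (repWith_yon_iff qA).1 (repWith_baseChange sqW hπ)
  let gen : e₀.ptK' ⟶ e₀.ptA' := Over.homMk (Spec.map (CommRingCat.ofHom (algebraMap e₀.A' e₀.K'))) rfl
  let d : e₀.ptK' ⟶ sq.ptK := Over.homMk (Spec.map (CommRingCat.ofHom e₀.ψ)) (by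
    change Spec.map _ ≫ Spec.map _ ≫ _ = Spec.map _ ≫ Spec.map _ ≫ _
    rw [← Spec.map_comp_assoc, ← Spec.map_comp_assoc, ← CommRingCat.ofHom_comp, ← CommRingCat.ofHom_comp, e₀.comm])
  -- a point over the closed point and one over the generic point
  obtain ⟨u, hu⟩ := ofPt_surjective hπs (Points.ofPt l (closedPoint e₀.A'))
  obtain ⟨w, -, hw⟩ := (ofPt_eq_iff sqW u (closedPoint e₀.A' : ↥e₀.ptA'.left)).1 hu
  obtain ⟨w', hw'w, hw'⟩ := Flat.generalizingMap qA.left
    (show gen.left (closedPoint e₀.K') ⤳ qA.left w by rw [hw]; exact specializes_closedPoint _)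
  obtain ⟨z', hz'₁, hz'₂⟩ := Scheme.Pullback.exists_preimage_pullback (f := qA.left) (g := gen.left) w'
    (closedPoint e₀.K') hw'
  let G := pullback qA.left gen.left
  let Ωs : Over S := Over.mk (G.fromSpecResidueField z' ≫ pullback.fst qA.left gen.left ≫ W.hom)
  let m₁ : Ωs ⟶ W := Over.homMk (G.fromSpecResidueField z' ≫ pullback.fst qA.left gen.left) (Category.assoc _ _ _)
  let m₂ : Ωs ⟶ e₀.ptK' := Over.homMk (G.fromSpecResidueField z' ≫ pullback.snd qA.left gen.left) (by
    show (G.fromSpecResidueField z' ≫ pullback.snd qA.left gen.left) ≫ e₀.ptK'.hom =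
      G.fromSpecResidueField z' ≫ pullback.fst qA.left gen.left ≫ W.hom
    rw [← Over.w qA, ← Over.w gen, Category.assoc, pullback.condition_assoc])
  have hm : m₁ ≫ qA = m₂ ≫ gen := Over.OverMorphism.ext (by
    show (_ ≫ _) ≫ qA.left = (_ ≫ _) ≫ gen.left
    rw [Category.assoc, Category.assoc, pullback.condition])
  obtain ⟨V, pV, qK, sqV⟩ := exists_pullback hX.diag π sq.top
  have : Etale qK.left := (repWith_yon_iff qK).1 (repWith_baseChange sqV hπ)
  obtain ⟨z, hz⟩ := exists_map_eq (sqV.lift ((yon S).map (m₁ ≫ pU)) ((yon S).map (m₂ ≫ d)) (by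
    rw [Functor.map_comp, Category.assoc, sqW.w, ← Functor.map_comp_assoc, hm, Functor.map_comp, Category.assoc,
      hl₁, Functor.map_comp, Category.assoc]))
  have hz₁ : z ≫ pV = m₁ ≫ pU := (yon S).map_injective (by rw [Functor.map_comp, hz, sqV.lift_fst])
  have hz₂ : z ≫ qK = m₂ ≫ d := (yon S).map_injective (by rw [Functor.map_comp, hz, sqV.lift_snd])
  obtain ⟨L, _, i, j, m, hfs, hmi, hjm⟩ := exists_finSep_point (Ω := G.residueField z') qK.left z.left
  obtain ⟨C, c₁, hc₁, hc₁m⟩ := exists_valuation_of_specializes (L := G.residueField z') m₁.left (w := w) (by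
    have : m₁.left (closedPoint (G.residueField z')) = w' := by
      show pullback.fst qA.left gen.left (G.fromSpecResidueField z' _) = w'
      exact (congrArg (pullback.fst qA.left gen.left) (Scheme.fromSpecResidueField_apply z' _)).trans hz'₁
    exact this.symm ▸ hw'w)
  obtain ⟨ν, hν⟩ := Spec.map_surjective m₂.left
  have hgenC : Spec.map (CommRingCat.ofHom (algebraMap C (G.residueField z'))) ≫ c₁ ≫ qA.left =
      Spec.map ν ≫ Spec.map (CommRingCat.ofHom (algebraMap e₀.A' e₀.K')) := by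
    rw [reassoc_of% hc₁m, hν]
    exact congrArg (fun t => t.left) hm
  obtain ⟨φC, hφC, hcommC, hφCc⟩ := exists_local_map (B := C) (L := G.residueField z') ν.hom (c₁ ≫ qA.left)
    hgenC (by rw [Scheme.Hom.comp_apply, hc₁]; exact hw)
  have hνj : ν.hom.comp e₀.ψ = j.comp i := by
    have : CommRingCat.ofHom e₀.ψ ≫ ν = CommRingCat.ofHom i ≫ CommRingCat.ofHom j := Spec.map_injective (by
      rw [Spec.map_comp, Spec.map_comp, hν, ← hmi, reassoc_of% hjm]
      exact (congrArg (fun t => t.left) hz₂).symm)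
    exact congrArg CommRingCat.Hom.hom this
  let B : ValuationSubring L := C.comap j
  let jB : B →+* C :=
    { toFun := fun b => ⟨j b.1, b.2⟩
      map_one' := Subtype.ext (map_one j)
      map_mul' := fun a b => Subtype.ext (map_mul j a.1 b.1)
      map_zero' := Subtype.ext (map_zero j)
      map_add' := fun a b => Subtype.ext (map_add j a.1 b.1) }
  have hjB : IsLocalHom jB := ⟨fun b hb => by
    obtain ⟨c, hc⟩ := hb.exists_right_inv
    have h1 : j b.1 * c.1 = 1 := congrArg Subtype.val hc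
    have hb0 : b.1 ≠ 0 := fun h => by simp [h] at h1
    have hmem : b.1⁻¹ ∈ B := by
      show j b.1⁻¹ ∈ C
      rw [map_inv₀, ← eq_inv_of_mul_eq_one_right h1]
      exact c.2
    exact IsUnit.of_mul_eq_one ⟨_, hmem⟩ (Subtype.ext (mul_inv_cancel₀ hb0))⟩
  have hjBc : (algebraMap C (G.residueField z')).comp jB = j.comp (algebraMap B L) := RingHom.ext fun _ => rfl
  have key : ∀ a, j (i (algebraMap sq.A sq.K a)) = (φC (e₀.φ a) : C).1 := fun a => by
    have h1 : (φC (e₀.φ a) : C).1 = ν.hom (algebraMap e₀.A' e₀.K' (e₀.φ a)) := congr($(hcommC) (e₀.φ a))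
    rw [h1]
    exact ((congrArg ν.hom congr($(e₀.comm) a)).trans congr($(hνj) (algebraMap sq.A sq.K a))).symm
  let φ : sq.A →+* B := (i.comp (algebraMap sq.A sq.K)).codRestrict B.toSubring fun a => by
    show j (i (algebraMap sq.A sq.K a)) ∈ C
    rw [key]
    exact Subtype.property _
  have hφ : jB.comp φ = φC.comp e₀.φ := RingHom.ext fun a => Subtype.ext (key a)
  have : IsLocalHom e₀.φ := e₀.isLocalHom
  have hφl : IsLocalHom φ := ⟨fun a ha => isUnit_of_map_unit e₀.φ a (isUnit_of_map_unit φC _ (by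
    rw [← RingHom.comp_apply, ← hφ, RingHom.comp_apply]
    exact ha.map jB))⟩
  obtain ⟨mU, hmU, hmU'⟩ := exists_descend_scheme (W := U.left) (A := B) (A' := C) (K := L) (K' := G.residueField z') jB j
    hjBc hjB (m ≫ pV.left) (c₁ ≫ pU.left) (by
      rw [reassoc_of% hc₁m, reassoc_of% hjm]
      exact (congrArg (fun t => t.left) hz₁).symm)
  have hjBi : Function.Injective jB := fun a b h => Subtype.ext (j.injective (congrArg Subtype.val h))
  letI : Algebra B C := jB.toAlgebra
  have hfl : Module.Flat B C := ValSep.flat_of_injective hjBi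
  have : IsLocalHom (algebraMap B C) := hjB
  have : Module.FaithfullyFlat B C := Module.FaithfullyFlat.of_flat_of_isLocalHom
  have hF : Flat (Spec.map (CommRingCat.ofHom jB)) := HasRingHomProperty.Spec_iff.2
    (show (algebraMap B C).Flat from RingHom.flat_algebraMap_iff.2 hfl)
  have hS : Surjective (Spec.map (CommRingCat.ofHom jB)) :=
    ⟨PrimeSpectrum.comap_surjective_of_faithfullyFlat (A := B) (B := C)⟩
  have hA : Spec.map (CommRingCat.ofHom jB) ≫ Spec.map (CommRingCat.ofHom φ) =
      (c₁ ≫ qA.left) ≫ Spec.map (CommRingCat.ofHom e₀.φ) := by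
    rw [← hφCc, ← Spec.map_comp, ← Spec.map_comp, ← CommRingCat.ofHom_comp, ← CommRingCat.ofHom_comp, hφ]
  let e : sq.DomExt := { A' := B, K' := L, φ := φ, ψ := i, comm := RingHom.ext fun _ => rfl, isLocalHom := hφl }
  let k : e.ptA' ⟶ U := Over.homMk mU (by
    have := Flat.epi_of_flat_of_surjective (Spec.map (CommRingCat.ofHom jB))
    rw [← cancel_epi (Spec.map (CommRingCat.ofHom jB))]
    show Spec.map (CommRingCat.ofHom jB) ≫ mU ≫ U.hom =
      Spec.map (CommRingCat.ofHom jB) ≫ Spec.map (CommRingCat.ofHom φ) ≫ sq.str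
    rw [reassoc_of% hmU', reassoc_of% hA, Over.w pU, ← Over.w qA]
    rfl)
  let c : Over.mk (c₁ ≫ W.hom) ⟶ W := Over.homMk c₁ rfl
  let r : Over.mk (c₁ ≫ W.hom) ⟶ e.ptA' := Over.homMk (Spec.map (CommRingCat.ofHom jB)) (by
    show Spec.map (CommRingCat.ofHom jB) ≫ Spec.map (CommRingCat.ofHom φ) ≫ sq.str = c₁ ≫ W.hom
    rw [reassoc_of% hA, ← Over.w qA]
    rfl)
  refine ⟨e, hfs, (yon S).map k ≫ π, ?_, ?_⟩
  · let m' : e.ptK' ⟶ V := Over.homMk m (by
      show m ≫ V.hom = Spec.map (CommRingCat.ofHom (algebraMap B L)) ≫ Spec.map (CommRingCat.ofHom φ) ≫ sq.str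
      rw [← Over.w qK, reassoc_of% hmi, ← Spec.map_comp_assoc]
      show Spec.map (CommRingCat.ofHom i) ≫ Spec.map _ ≫ sq.str = _
      rw [← Spec.map_comp_assoc]
      rfl)
    rw [← Functor.map_comp_assoc, show (Over.homMk (Spec.map (CommRingCat.ofHom (algebraMap e.A' e.K'))) rfl :
      e.ptK' ⟶ e.ptA') ≫ k = m' ≫ pV from Over.OverMorphism.ext hmU, Functor.map_comp, Category.assoc, sqV.w,
      ← Functor.map_comp_assoc]
    exact congrArg (fun t => (yon S).map t ≫ sq.top) (Over.OverMorphism.ext hmi)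
  · have : Flat r.left := hF
    have : Surjective r.left := hS
    have : QuasiCompact r.left := inferInstanceAs (QuasiCompact (Spec.map (CommRingCat.ofHom jB)))
    refine FpqcSheaf.hom_ext_of_flat hY r ?_
    rw [← Category.assoc, ← Functor.map_comp_assoc, show r ≫ k = c ≫ pU from Over.OverMorphism.ext hmU',
      Functor.map_comp, Category.assoc, Category.assoc, ← Category.assoc ((yon S).map pU), sqW.w, Category.assoc,
      hl₂, ← Functor.map_comp_assoc, ← Functor.map_comp_assoc, ← Functor.map_comp_assoc]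
    exact congrArg (fun t => (yon S).map t ≫ sq.bot) (Over.OverMorphism.ext
      ((Category.assoc _ _ _).symm.trans hA.symm))

end Groth.Agent.ValLib
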