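import Groth.Agent.AlgSpLib.Criteria
import Groth.Agent.AlgSpLib.FpqcList
import Groth.Agent.AlgSpLib.ProperCrit
import Groth.Agent.S10286
import Groth.Prelude.Def_AlgSpMor5
import Mathlib.AlgebraicGeometry.ValuativeCriterion

/-!
# The existence part of the valuative criterion gives universally closed
-/

universe u

open CategoryTheory CategoryTheory.Limits AlgebraicGeometry Opposite IsLocalRing

set_option backward.isDefEq.respectTransparency false

namespace Groth.Agent.ValLib

open _root_.AlgSp Groth.Agent.AlgSpLib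

theorem isClosed_image_of_stable {X Y : Scheme.{u}} [IsAffine X] [IsAffine Y] (f : X ⟶ Y) {E : Set X}
    (hE : IsClosed E) (h : StableUnderSpecialization (f '' E)) : IsClosed (f '' E) := by
  let eY := Scheme.homeoOfIso Y.isoSpec
  let eX := Scheme.homeoOfIso X.isoSpec
  have hf : ∀ x, eY (f x) = Spec.map f.appTop (eX x) := fun x =>
    congr($(Scheme.isoSpec_hom_naturality f) x).symm
  have him : eY '' (f '' E) = Spec.map f.appTop '' (eX '' E) := by
    rw [Set.image_image, Set.image_image]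
    exact Set.image_congr fun x _ => hf x
  rw [← eY.isClosed_image, him]
  refine PrimeSpectrum.isClosed_image_of_stableUnderSpecialization f.appTop.hom _ (eX.isClosed_image.2 hE) ?_
  rintro a b hab ha
  replace ha := (Set.ext_iff.1 him a).2 ha
  refine (Set.ext_iff.1 him b).1 ?_
  obtain ⟨a', ha', rfl⟩ := ha
  refine ⟨eY.symm b, h ?_ ha', eY.apply_symm_apply b⟩
  simpa using hab.map eY.symm.continuous

variable {S : Scheme.{u}}

theorem existVC_of_isPullback {X Y Z W : Sp S} (hX : IsAlgSpace X) (hY : IsAlgSpace Y) (hZ : IsAlgSpace Z)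
    (hW : IsAlgSpace W) {f : X ⟶ Y} {g : Z ⟶ Y} {fst : W ⟶ X} {snd : W ⟶ Z} (sq : IsPullback fst snd f g)
    (h : ExistVC f) : ExistVC snd :=
  (S10286.result (X := ⟨X, hX⟩) (Y := ⟨Y, hY⟩) (Z := ⟨Z, hZ⟩) (X' := ⟨W, hW⟩) ⟨f⟩ ⟨g⟩ ⟨fst⟩ ⟨snd⟩ sq).1 h

theorem isUnivClosedMor_of_existVC {X Y : Sp S} (hX : IsAlgSpace X) (hY : IsAlgSpace Y) (f : X ⟶ Y)
    (hq : IsQuasiCompactMor f) (he : ExistVC f) : IsUnivClosedMor f := by
  refine univSp_of_affine IsClosedMor (fun _ _ _ _ _ _ _ _ _ hb sq h => isClosedMap_of_fpqcCover sq hb h) f ?_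
  intro Z hZ g W fst snd sqW E hE
  have hW : IsAlgSpace W := isAlgSpace_of_isPullback_space hY hX (IsAlgSpace.yon_obj Z) sqW
  have := compactSpace_of_isQuasiCompactSp (hq (IsAlgSpace.yon_obj Z) (isQuasiCompactSp_yon Z) g _ _ sqW)
  obtain ⟨U, π, hU, -, hπs⟩ := exists_affine_chart_of_compact hW
  obtain ⟨h, hh⟩ := exists_map_eq (π ≫ snd)
  have hpt : ∀ u, Points.map snd (Points.ofPt π u) = Points.ofScheme Z (h.left u) := fun u => by
    rw [Points.map_ofPt, ← hh, ofScheme_map]
  have him : Points.map snd '' E = Points.schemeHomeo Z '' (h.left '' (Points.ofPt π ⁻¹' E)) := by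
    rw [Set.image_image]
    ext y
    constructor
    · rintro ⟨w, hw, rfl⟩
      obtain ⟨u, rfl⟩ := ofPt_surjective hπs w
      exact ⟨u, hw, (hpt u).symm⟩
    · rintro ⟨u, hu, rfl⟩
      exact ⟨_, hu, hpt u⟩
  rw [him, (Points.schemeHomeo Z).isClosed_image]
  refine isClosed_image_of_stable h.left (hE.preimage (Points.continuous_ofPt π)) ?_
  rintro z' z hzz ⟨u, hu, rfl⟩
  let r : Z.left.presheaf.stalk z ⟶ U.left.residueField u :=
    Z.left.presheaf.stalkSpecializes hzz ≫ h.left.stalkMap u ≫ U.left.residue u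
  obtain ⟨A, hA, hAl⟩ := exists_factor_valuationRing r.hom
  let α : Z.left.presheaf.stalk z ⟶ CommRingCat.of A := CommRingCat.ofHom (r.hom.codRestrict A.toSubring hA)
  let β : Spec (CommRingCat.of A) ⟶ Z.left := Spec.map α ≫ Z.left.fromSpecStalk z
  let κ : Spec (U.left.residueField u) ⟶ U.left := U.left.fromSpecResidueField u
  have w : κ ≫ h.left = Spec.map (CommRingCat.ofHom (algebraMap A (U.left.residueField u))) ≫ β := by
    rw [show κ = U.left.fromSpecResidueField u from rfl, Scheme.fromSpecResidueField, Category.assoc,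
      ← Scheme.SpecMap_stalkMap_fromSpecStalk, ← Scheme.SpecMap_stalkSpecializes_fromSpecStalk hzz]
    simp_rw [β, ← Spec.map_comp_assoc]
    rfl
  let ptA : Over S := Over.mk (β ≫ Z.hom)
  let ptK : Over S := Over.mk (Spec.map (CommRingCat.ofHom (algebraMap A (U.left.residueField u))) ≫ β ≫ Z.hom)
  let k : ptK ⟶ U := Over.homMk κ (by
    show κ ≫ U.hom = _ ≫ β ≫ Z.hom
    rw [← Over.w h, reassoc_of% w])
  let b : ptA ⟶ Z := Over.homMk β rfl
  have comm : ((yon S).map k ≫ π) ≫ snd = (yon S).map (Over.homMk (Spec.map (CommRingCat.ofHom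
      (algebraMap A (U.left.residueField u)))) rfl : ptK ⟶ ptA) ≫ (yon S).map b := by
    rw [Category.assoc, ← hh, ← Functor.map_comp, ← Functor.map_comp]
    congr 1
    exact Over.OverMorphism.ext w
  let sq : ValSq snd :=
    { A := A, K := U.left.residueField u, str := β ≫ Z.hom, top := (yon S).map k ≫ π, bot := (yon S).map b,
      comm := comm }
  obtain ⟨e, l, hl₁, hl₂⟩ := (existVC_of_isPullback hX hY (IsAlgSpace.yon_obj Z) hW sqW he) sq
  let gen : e.ptK' ⟶ e.ptA' := Over.homMk (Spec.map (CommRingCat.ofHom (algebraMap e.A' e.K'))) rfl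
  let η : ↥e.ptA'.left := gen.left (closedPoint e.K')
  let c₀ : ↥e.ptA'.left := closedPoint e.A'
  have hgen : Points.ofPt l η = Points.ofPt π u := by
    rw [← ofPt_comp gen l, show (yon S).map gen ≫ l = _ from hl₁, ofPt_comp]
    change Points.ofPt ((yon S).map k ≫ π) _ = _
    rw [ofPt_comp]
    exact congrArg (Points.ofPt π) (Scheme.fromSpecResidueField_apply _ _)
  have hspec : Points.ofPt l η ⤳ Points.ofPt l c₀ :=
    (specializes_closedPoint _).map (Points.continuous_ofPt l)
  have hmem : Points.ofPt l c₀ ∈ E := hE.stableUnderSpecialization (hgen ▸ hspec) hu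
  obtain ⟨u', hu'⟩ := ofPt_surjective hπs (Points.ofPt l c₀)
  refine ⟨u', show Points.ofPt π u' ∈ E from hu' ▸ hmem, (Points.schemeEquiv Z).injective ?_⟩
  show Points.ofScheme Z (h.left u') = Points.ofScheme Z z
  rw [← hpt, hu', Points.map_ofPt, hl₂, ofPt_comp]
  show Points.ofPt ((yon S).map b) _ = _
  rw [ofScheme_map]
  refine congrArg (Points.ofScheme Z) ?_
  show β (Spec.map (CommRingCat.ofHom e.φ) (closedPoint e.A')) = z
  have := e.isLocalHom
  have h1 : Spec.map (CommRingCat.ofHom e.φ) (closedPoint e.A') = closedPoint A := comap_closedPoint e.φ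
  have h2 : Spec.map α (closedPoint A) = closedPoint (Z.left.presheaf.stalk z) :=
    comap_closedPoint (S := A) (r.hom.codRestrict A.toSubring hA)
  rw [h1]
  simp only [β, Scheme.Hom.comp_base, TopCat.coe_comp, Function.comp_apply, h2, Scheme.fromSpecStalk_closedPoint]

end Groth.Agent.ValLib
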