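import Groth.Agent.ValSep.Basic
import Groth.Agent.AlgSpLib.ProperCrit
import Groth.Agent.ValLib.UnivClosed

/-!
# Formal properties of the valuative criteria
-/

universe u

open CategoryTheory CategoryTheory.Limits AlgebraicGeometry Opposite IsLocalRing

set_option backward.isDefEq.respectTransparency false

namespace Groth.Agent.ValLib

open _root_.AlgSp Groth.Agent.AlgSpLib

variable {S : Scheme.{u}}

theorem hasLiftExt_of_hasLift {X Y : Sp S} {f : X ⟶ Y} {sq : ValSq f} (h : sq.HasLift) : sq.HasLiftExt := by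
  obtain ⟨l, h1, h2⟩ := h
  let e : sq.DomExt :=
    { A' := sq.A, K' := sq.K, φ := RingHom.id _, ψ := RingHom.id _, comm := rfl,
      isLocalHom := ⟨fun _ h => h⟩ }
  let i : e.ptA' ⟶ sq.ptA := Over.homMk (Spec.map (CommRingCat.ofHom e.φ)) rfl
  refine ⟨e, (yon S).map i ≫ l, ?_, by rw [Category.assoc, h2]⟩
  rw [← h1, ← Functor.map_comp_assoc, ← Functor.map_comp_assoc]
  congr 2
  apply Over.OverMorphism.ext
  show Spec.map _ ≫ Spec.map _ = Spec.map _ ≫ Spec.map _
  rw [← Spec.map_comp, ← Spec.map_comp]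
  rfl

theorem existVC_iff_strict_of_separated {X Y : Sp S} (hX : IsAlgSpace X) (hY : IsAlgSpace Y) (f : X ⟶ Y)
    (hf : IsSeparatedMor f) : ExistVC f ↔ ExistVCStrict f :=
  ⟨fun h sq => (h sq).elim fun e he => ValSep.hasLift_of_extension hX hY f hf sq e he,
    fun h sq => hasLiftExt_of_hasLift (h sq)⟩

theorem uniqVC_of_separated {X Y : Sp S} (f : X ⟶ Y) (hf : IsSeparatedMor f) : UniqVC f := by
  intro sq l l' h1 h2 h3 h4
  have hP : l ≫ f = l' ≫ f := h2.trans h4.symm
  obtain ⟨W, fst, w, sqd, hw⟩ := exists_repWith hf (pullback.lift _ _ hP)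
  have : IsClosedImmersion w.left := hw
  obtain ⟨k, hk⟩ := exists_map_eq (sqd.lift ((yon S).map sq.j ≫ l) ((yon S).map sq.j) (by
    apply pullback.hom_ext
    · simp
    · simp only [Category.assoc, pullback.diagonal_snd, pullback.lift_snd, Category.comp_id]
      exact h1.trans h3.symm))
  have hkw : k ≫ w = sq.j := (yon S).map_injective (by rw [Functor.map_comp, hk, sqd.lift_snd])
  have : IsIso w.left := by
    have : IsAffine sq.ptA.left := inferInstanceAs (IsAffine (Spec (CommRingCat.of sq.A)))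
    have : IsAffine sq.ptK.left := inferInstanceAs (IsAffine (Spec (CommRingCat.of sq.K)))
    refine ValSep.isIso_of_injective_factor w.left k.left ?_
    rw [← Over.comp_left, hkw]
    intro a b h
    apply (ConcreteCategory.bijective_of_isIso (Scheme.ΓSpecIso (CommRingCat.of sq.A)).hom).1
    apply IsFractionRing.injective sq.A sq.K
    have h' := congrArg (Scheme.ΓSpecIso (CommRingCat.of sq.K)).hom h
    exact ((congr($(Scheme.ΓSpecIso_naturality (CommRingCat.ofHom (algebraMap sq.A sq.K))) a)).symm.trans h').trans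
      (congr($(Scheme.ΓSpecIso_naturality (CommRingCat.ofHom (algebraMap sq.A sq.K))) b))
  have : IsIso w := (isIso_iff_of_reflects_iso w (Over.forget S)).1 this
  have hf' := congrArg (fun m => inv ((yon S).map w) ≫ m) sqd.w
  rw [IsIso.inv_hom_id_assoc] at hf'
  have e1 := congrArg (fun m => m ≫ pullback.fst f f) hf'
  have e2 := congrArg (fun m => m ≫ pullback.snd f f) hf'
  simp only [Category.assoc, pullback.diagonal_fst, pullback.diagonal_snd, pullback.lift_fst,
    pullback.lift_snd, Category.comp_id] at e1 e2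
  exact e1.symm.trans e2

theorem uniqVC_comp {X Y Z : Sp S} {f : X ⟶ Y} {g : Y ⟶ Z} (hf : UniqVC f) (hg : UniqVC g) :
    UniqVC (f ≫ g) := by
  intro sq l l' h1 h2 h3 h4
  have e : l ≫ f = l' ≫ f := hg { A := sq.A, K := sq.K, str := sq.str, top := sq.top ≫ f, bot := sq.bot
                                  comm := (Category.assoc _ _ _).trans sq.comm } _ _
    ((Category.assoc _ _ _).symm.trans (congrArg (fun m => m ≫ f) h1)) ((Category.assoc _ _ _).trans h2)
    ((Category.assoc _ _ _).symm.trans (congrArg (fun m => m ≫ f) h3)) ((Category.assoc _ _ _).trans h4)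
  exact hf { A := sq.A, K := sq.K, str := sq.str, top := sq.top, bot := l ≫ f
             comm := by rw [← h1, Category.assoc] } l l' h1 rfl h3 e.symm

/-- building a lift after extension with a free structure morphism -/
theorem hasLiftExt_of_data {X Y : Sp S} {f : X ⟶ Y} (sq : ValSq f) {A' K' : Type u} [CommRing A'] [IsDomain A']
    [ValuationRing A'] [Field K'] [Algebra A' K'] [IsFractionRing A' K'] (φ : sq.A →+* A') (ψ : sq.K →+* K')
    (comm : (algebraMap A' K').comp φ = ψ.comp (algebraMap sq.A sq.K)) (hloc : IsLocalHom φ)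
    (str' : Spec (CommRingCat.of A') ⟶ S) (hstr : str' = Spec.map (CommRingCat.ofHom φ) ≫ sq.str)
    (l : (yon S).obj (Over.mk str') ⟶ X)
    (h1 : ∀ δ : Over.mk (Spec.map (CommRingCat.ofHom (algebraMap A' K')) ≫ str') ⟶ sq.ptK,
      δ.left = Spec.map (CommRingCat.ofHom ψ) →
      (yon S).map (Over.homMk (Spec.map (CommRingCat.ofHom (algebraMap A' K'))) rfl :
        Over.mk (Spec.map (CommRingCat.ofHom (algebraMap A' K')) ≫ str') ⟶ Over.mk str') ≫ l =
        (yon S).map δ ≫ sq.top)
    (h2 : ∀ ε : Over.mk str' ⟶ sq.ptA, ε.left = Spec.map (CommRingCat.ofHom φ) →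
      l ≫ f = (yon S).map ε ≫ sq.bot) : sq.HasLiftExt := by
  subst hstr
  exact ⟨{ A' := A', K' := K', φ := φ, ψ := ψ, comm := comm, isLocalHom := hloc }, l, h1 _ rfl, h2 _ rfl⟩

theorem existVC_comp {X Y Z : Sp S} {f : X ⟶ Y} {g : Y ⟶ Z} (hf : ExistVC f) (hg : ExistVC g) :
    ExistVC (f ≫ g) := by
  intro sq
  obtain ⟨e₁, l₁, h₁, h₁'⟩ := hg { A := sq.A, K := sq.K, str := sq.str, top := sq.top ≫ f, bot := sq.bot
                                   comm := (Category.assoc _ _ _).trans sq.comm }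
  let d : Over.mk (Spec.map (CommRingCat.ofHom (algebraMap e₁.A' e₁.K')) ≫
      Spec.map (CommRingCat.ofHom e₁.φ) ≫ sq.str) ⟶ sq.ptK := Over.homMk (Spec.map (CommRingCat.ofHom e₁.ψ)) (by
    change Spec.map _ ≫ Spec.map _ ≫ _ = Spec.map _ ≫ Spec.map _ ≫ _
    rw [← Spec.map_comp_assoc, ← Spec.map_comp_assoc, ← CommRingCat.ofHom_comp, ← CommRingCat.ofHom_comp, e₁.comm])
  obtain ⟨e₂, l₂, h₂, h₂'⟩ := hf { A := e₁.A', K := e₁.K', str := Spec.map (CommRingCat.ofHom e₁.φ) ≫ sq.str
                                   top := (yon S).map d ≫ sq.top, bot := l₁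
                                   comm := (Category.assoc _ _ _).trans h₁.symm }
  refine hasLiftExt_of_data sq (A' := e₂.A') (K' := e₂.K') (e₂.φ.comp e₁.φ) (e₂.ψ.comp e₁.ψ)
    (RingHom.ext fun x => (congr($(e₂.comm) (e₁.φ x))).trans (congrArg e₂.ψ congr($(e₁.comm) x)))
    (@RingHom.isLocalHom_comp _ _ _ _ _ _ _ _ e₂.isLocalHom e₁.isLocalHom)
    (Spec.map (CommRingCat.ofHom e₂.φ) ≫ Spec.map (CommRingCat.ofHom e₁.φ) ≫ sq.str)
    (Spec.map_comp_assoc _ _ _).symm l₂ (fun δ hδ => ?_) (fun ε hε => ?_)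
  · refine h₂.trans ((((yon S).map_comp_assoc _ d sq.top).symm).trans ?_)
    refine congrArg (fun m => (yon S).map m ≫ sq.top) (Over.OverMorphism.ext ?_)
    rw [hδ]
    exact (Spec.map_comp _ _).symm
  · refine ((Category.assoc _ _ _).symm.trans (congrArg (fun m => m ≫ g) h₂')).trans ?_
    refine ((Category.assoc _ _ _).trans (congrArg (fun m => _ ≫ m) h₁')).trans ?_
    refine ((yon S).map_comp_assoc _ _ sq.bot).symm.trans ?_
    refine congrArg (fun m => (yon S).map m ≫ sq.bot) (Over.OverMorphism.ext ?_)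
    rw [hε]
    exact (Spec.map_comp _ _).symm

theorem existVC_diagonal_of_uniqVC {X Y : Sp S} {f : X ⟶ Y} (hu : UniqVC f) :
    ExistVC (pullback.diagonal f) := by
  intro sq
  have c1 : (yon S).map sq.j ≫ sq.bot ≫ pullback.fst f f = sq.top := by
    rw [← Category.assoc, ← sq.comm, Category.assoc, pullback.diagonal_fst, Category.comp_id]
  have c2 : (yon S).map sq.j ≫ sq.bot ≫ pullback.snd f f = sq.top := by
    rw [← Category.assoc, ← sq.comm, Category.assoc, pullback.diagonal_snd, Category.comp_id]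
  have e : sq.bot ≫ pullback.fst f f = sq.bot ≫ pullback.snd f f :=
    hu { A := sq.A, K := sq.K, str := sq.str, top := sq.top, bot := sq.bot ≫ pullback.fst f f ≫ f
         comm := by rw [← c1, Category.assoc, Category.assoc] } _ _ c1 (Category.assoc _ _ _) c2
      ((Category.assoc _ _ _).trans (congrArg (sq.bot ≫ ·) pullback.condition.symm))
  refine hasLiftExt_of_hasLift ⟨sq.bot ≫ pullback.fst f f, c1, ?_⟩
  apply pullback.hom_ext
  · simp
  · simpa using e

theorem isSeparatedMor_of_uniqVC {X Y : Sp S} (hX : IsAlgSpace X) (hY : IsAlgSpace Y) (f : X ⟶ Y)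
    (hqs : IsQuasiSeparatedMor f) (hu : UniqVC f) : IsSeparatedMor f := by
  have hB : IsAlgSpace (pullback f f) :=
    isAlgSpace_of_isPullback_space hY hX hX (IsPullback.of_hasPullback f f)
  refine (isSeparatedMor_iff_diagonal hX hY f).1.2 (isUnivClosedMor_of_existVC hX hB _ ?_
    (existVC_diagonal_of_uniqVC hu))
  exact (isQuasiCompactMor_iff_repWith hX hB (repWith_diagonal_props hX f).1.1).2 hqs

end Groth.Agent.ValLib
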