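import Groth.Agent.ValLib.Noeth
import Groth.Agent.AlgSpLib.LocPMore

/-!
# The valuative criterion of universal closedness with discrete valuation rings
-/

universe u

open CategoryTheory CategoryTheory.Limits AlgebraicGeometry Opposite IsLocalRing TensorProduct

set_option backward.isDefEq.respectTransparency false

namespace Groth.Agent.ValLib

open _root_.AlgSp Groth.Agent.AlgSpLib

variable {S : Scheme.{u}}

theorem exists_algPt_iso {R : Type u} [CommRing R] (str : Spec (CommRingCat.of R) ⟶ S) {U : Over S} [IsAffine U.left]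
    (h : U ⟶ Over.mk str) : ∃ (C : CommRingCat.{u}) (_ : Algebra R C) (i : algPt str C ⟶ U), IsIso i ∧
      i ≫ h = (Over.homMk (Spec.map (CommRingCat.ofHom (algebraMap R C))) rfl : algPt str C ⟶ Over.mk str) := by
  obtain ⟨α, hα⟩ := Spec.map_surjective (U.left.isoSpec.inv ≫ h.left)
  let _ : Algebra R Γ(U.left, ⊤) := α.hom.toAlgebra
  have hw : U.left.isoSpec.inv ≫ h.left = Spec.map (CommRingCat.ofHom (algebraMap R Γ(U.left, ⊤))) := hα.symm
  let i : algPt str Γ(U.left, ⊤) ⟶ U := Over.homMk U.left.isoSpec.inv (by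
    show _ ≫ U.hom = _ ≫ str
    rw [← hw, Category.assoc]
    exact congrArg (fun m => U.left.isoSpec.inv ≫ m) (Over.w h).symm)
  have : IsIso i.left := inferInstanceAs (IsIso U.left.isoSpec.inv)
  exact ⟨Γ(U.left, ⊤), inferInstance, i, (isIso_iff_of_reflects_iso i (Over.forget S)).1 this,
    Over.OverMorphism.ext hw⟩

/-- universal closedness over an affine Noetherian base -/
theorem isUnivClosedMor_of_dvr_affine {X Y : Sp S} (hX : IsAlgSpace X) (hY : IsAlgSpace Y) (f : X ⟶ Y)
    (hq : IsQuasiCompactMor f) (hl : LocP @LocallyOfFiniteType f)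
    (hv : ∀ sq : ValSq f, IsDiscreteValuationRing sq.A → sq.HasLiftExt)
    {R : Type u} [CommRing R] [IsNoetherianRing R] (str : Spec (CommRingCat.of R) ⟶ S)
    (g : (yon S).obj (Over.mk str) ⟶ Y) {P : Sp S} {fst : P ⟶ X} {snd : P ⟶ (yon S).obj (Over.mk str)}
    (sqP : IsPullback fst snd f g) : IsUnivClosedMor snd := by
  have : CompactSpace (Over.mk str).left := inferInstanceAs (CompactSpace ↥(Spec (CommRingCat.of R)))
  have hP : IsAlgSpace P := isAlgSpace_of_isPullback_space hY hX (IsAlgSpace.yon_obj _) sqP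
  have := compactSpace_of_isQuasiCompactSp (hq (IsAlgSpace.yon_obj _) (isQuasiCompactSp_yon _) g _ _ sqP)
  obtain ⟨U, π₀, hU, hπ₀, hπ₀s⟩ := exists_affine_chart_of_compact hP
  obtain ⟨h₀, hh₀⟩ := exists_map_eq (π₀ ≫ snd)
  obtain ⟨C, _, i, _, hi⟩ := exists_algPt_iso str h₀
  obtain ⟨π, hπdef⟩ : ∃ π, π = (yon S).map i ≫ π₀ := ⟨_, rfl⟩
  have hπ : RepWith @Etale π := hπdef ▸ (repWith_iso_comp_iff _ _).2 hπ₀
  have hπs : RepWith @Surjective π := hπdef ▸ (repWith_iso_comp_iff _ _).2 hπ₀s
  have hh : π ≫ snd = (yon S).map (Over.homMk (Spec.map (CommRingCat.ofHom (algebraMap R C))) rfl :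
      algPt str C ⟶ Over.mk str) := by
    rw [hπdef, Category.assoc, ← hh₀, ← Functor.map_comp, hi]
  have hC : Algebra.FiniteType R C := by
    have hlP := locP_baseChange etST_lft hX hY hP (IsAlgSpace.yon_obj _) sqP hl
    have h1 : LocallyOfFiniteType (Spec.map (CommRingCat.ofHom (algebraMap R C))) :=
      hlP π (𝟙 _) _ hπ repWith_id' (by rw [Category.comp_id]; exact hh)
    exact RingHom.finiteType_algebraMap.1 ((HasRingHomProperty.Spec_iff (P := @LocallyOfFiniteType)).1 h1)
  refine univSp_of_affine IsClosedMor (fun _ _ _ _ _ _ _ _ _ hb sq h => isClosedMap_of_fpqcCover sq hb h) snd ?_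
  intro Z' hZ' g' W fst' snd' sqW
  obtain ⟨γ, rfl⟩ := exists_map_eq g'
  obtain ⟨B, _, e, _, he⟩ := exists_algPt_iso str γ
  have sqW' : IsPullback fst' (snd' ≫ inv ((yon S).map e)) snd
      ((yon S).map (Over.homMk (Spec.map (CommRingCat.ofHom (algebraMap R B))) rfl : algPt str B ⟶ Over.mk str)) := by
    refine sqW.of_iso (Iso.refl _) (Iso.refl _) (asIso ((yon S).map e)).symm (Iso.refl _) (by simp) (by simp)
      (by simp) ?_
    simp [← he]
  have hcl := isClosedMap_of_ft str hP snd π hπ hπs hh (fun B₀ _ _ hB₀ W₀ fst₀ snd₀ sq₀ => by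
    obtain ⟨c₀, hc₀e, hc₀s, hc₀2, -, -⟩ := exists_chart_baseChange str snd π hπ hπs hh B₀ sq₀
    have : IsNoetherianRing B₀ := Algebra.FiniteType.isNoetherianRing R B₀
    have : IsAffine (algPt str B₀).left := inferInstanceAs (IsAffine (Spec (CommRingCat.of B₀)))
    have : IsLocallyNoetherian (algPt str B₀).left :=
      inferInstanceAs (IsLocallyNoetherian (Spec (CommRingCat.of B₀)))
    have : IsAffine (algPt str (C ⊗[R] B₀)).left :=
      inferInstanceAs (IsAffine (Spec (CommRingCat.of (C ⊗[R] B₀))))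
    have : LocallyOfFiniteType (algPtMap str (Algebra.TensorProduct.includeRight : B₀ →ₐ[R] C ⊗[R] B₀)).left := by
      refine (HasRingHomProperty.Spec_iff (P := @LocallyOfFiniteType)).2 ?_
      let _ : Algebra B₀ (C ⊗[R] B₀) := Algebra.TensorProduct.rightAlgebra
      exact RingHom.finiteType_algebraMap.2 (show Algebra.FiniteType B₀ (C ⊗[R] B₀) from
        Algebra.FiniteType.equiv inferInstance (Algebra.TensorProduct.commRight R B₀ C))
    exact isClosedMap_of_dvr snd₀ c₀ (ofPt_surjective hc₀s) _ hc₀2.symm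
      (dvrExistence_of_isPullback (sq₀.paste_horiz sqP) hv)) B sqW'
  have e1 : Points.map snd' = Points.map ((yon S).map e) ∘ Points.map (snd' ≫ inv ((yon S).map e)) := by
    funext x
    rw [Function.comp_apply, ← Points.map_comp, Category.assoc, IsIso.inv_hom_id, Category.comp_id]
  show IsClosedMap (Points.map snd')
  rw [e1]
  exact (isHomeomorph_map_of_isIso ((yon S).map e)).isClosedMap.comp hcl

theorem isUnivClosedMor_of_dvr {X Y : Sp S} (hX : IsAlgSpace X) (hY : IsAlgSpace Y) (f : X ⟶ Y)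
    (hq : IsQuasiCompactMor f) (hl : LocP @LocallyOfFiniteType f) (hN : IsLocNoethSp Y)
    (hv : ∀ sq : ValSq f, IsDiscreteValuationRing sq.A → sq.HasLiftExt) : IsUnivClosedMor f := by
  obtain ⟨V, p, hpe, hps, hV⟩ := hN
  let ι := {O : V.left.Opens // IsAffineOpen O}
  let str : ∀ O : ι, Spec Γ(V.left, O.1) ⟶ S := fun O => O.2.fromSpec ≫ V.hom
  let inc : ∀ O : ι, Over.mk (str O) ⟶ V := fun O => Over.homMk O.2.fromSpec rfl
  let g : ∀ O : ι, (yon S).obj (Over.mk (str O)) ⟶ Y := fun O => (yon S).map (inc O) ≫ p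
  have he : ∀ O, RepWith @Etale (g O) := fun O =>
    repWith_comp ((repWith_yon_iff _).2 (inferInstanceAs (Etale O.2.fromSpec))) hpe
  have hg : IsFpqcCover (fun O => (yon S).obj (Over.mk (str O))) g := by
    refine isFpqcCover_of_fppf hY (fun _ => IsAlgSpace.yon_obj _) ⟨fun O =>
      ⟨(locP_iff_repWith etST_flat hY (he O).1).2 (repWith_mono (fun _ _ r hr => by
          have : Etale r := hr
          infer_instance) (he O)),
        (locP_iff_repWith etST_lfp hY (he O).1).2 (repWith_mono (fun _ _ r hr => by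
          have : Etale r := hr
          infer_instance) (he O))⟩, fun x => ?_⟩
    obtain ⟨v, rfl⟩ := ofPt_surjective hps x
    obtain ⟨O, hO, hv', -⟩ := TopologicalSpace.Opens.isBasis_iff_nbhd.mp V.left.isBasis_affineOpens
      (TopologicalSpace.Opens.mem_top v)
    obtain ⟨w, hw⟩ : v ∈ Set.range hO.fromSpec := hO.range_fromSpec ▸ hv'
    exact ⟨⟨O, hO⟩, Points.ofScheme _ w, by
      rw [Points.map_ofPt, Category.id_comp, ofPt_comp]
      exact congrArg (Points.ofPt p) hw⟩
  have sq := fun O => IsPullback.of_hasPullback f (g O)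
  refine (isLocalOnBase_isUnivClosedMor _ g hY (fun _ => IsAlgSpace.yon_obj _) hg f hX _ _ _
    (fun O => isAlgSpace_of_isPullback_space hY hX (IsAlgSpace.yon_obj _) (sq O)) sq).2 fun O => ?_
  have : IsNoetherianRing Γ(V.left, O.1) := IsLocallyNoetherian.component_noetherian ⟨O.1, O.2⟩
  exact isUnivClosedMor_of_dvr_affine hX hY f hq hl hv (str O) (g O) (sq O)

end Groth.Agent.ValLib
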