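import Groth.Agent.ValLib.DenseExist
import Groth.Agent.ValLib.NoethMain

/-!
# Universally closed and separated morphisms from squares with generic point in a dense piece
-/

universe u

open CategoryTheory CategoryTheory.Limits AlgebraicGeometry Opposite IsLocalRing

set_option backward.isDefEq.respectTransparency false

namespace Groth.Agent.ValLib

open _root_.AlgSp Groth.Agent.AlgSpLib

variable {S : Scheme.{u}}

/-- universal closedness is seen on affine etale pieces of the target -/
theorem isUnivClosedMor_of_affine_etale {X Y : Sp S} (hX : IsAlgSpace X) (hY : IsAlgSpace Y) (f : X ⟶ Y)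
    (H : ∀ (Z : Over S) [IsAffine Z.left] (g : (yon S).obj Z ⟶ Y), RepWith @Etale g →
      ∀ (P : Sp S) (fst : P ⟶ X) (snd : P ⟶ (yon S).obj Z), IsPullback fst snd f g → IsUnivClosedMor snd) :
    IsUnivClosedMor f := by
  obtain ⟨V, p, ι, O, hpe, hps, hO, -, hcov⟩ := exists_affine_chart_family hY
  let Z : ι → Over S := fun k => Over.mk ((O k).ι ≫ V.hom)
  let g : ∀ k, (yon S).obj (Z k) ⟶ Y := fun k => (yon S).map (Over.homMk (O k).ι rfl : Z k ⟶ V) ≫ p
  have he : ∀ k, RepWith @Etale (g k) := fun k =>
    repWith_comp ((repWith_yon_iff _).2 (inferInstanceAs (Etale (O k).ι))) hpe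
  have hg : IsFpqcCover (fun k => (yon S).obj (Z k)) g := by
    refine isFpqcCover_of_fppf hY (fun _ => IsAlgSpace.yon_obj _) ⟨fun k =>
      ⟨(locP_iff_repWith etST_flat hY (he k).1).2 (repWith_mono (fun _ _ r hr => by
          have : Etale r := hr
          infer_instance) (he k)),
        (locP_iff_repWith etST_lfp hY (he k).1).2 (repWith_mono (fun _ _ r hr => by
          have : Etale r := hr
          infer_instance) (he k))⟩, fun x => ?_⟩
    obtain ⟨v, rfl⟩ := ofPt_surjective hps x
    obtain ⟨k, hk⟩ := hcov v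
    exact ⟨k, Points.ofScheme _ (⟨v, hk⟩ : ↥(O k)), by
      rw [Points.map_ofPt, Category.id_comp, ofPt_comp]
      rfl⟩
  have sq := fun k => IsPullback.of_hasPullback f (g k)
  refine (isLocalOnBase_isUnivClosedMor _ g hY (fun _ => IsAlgSpace.yon_obj _) hg f hX _ _ _
    (fun k => isAlgSpace_of_isPullback_space hY hX (IsAlgSpace.yon_obj _) (sq k)) sq).2 fun k => ?_
  have : IsAffine (Z k).left := (hO k : IsAffine (O k).toScheme)
  exact H (Z k) (g k) (he k) _ _ _ (sq k)

/-- universally closed from lifts of squares with generic point in a dense quasi-compact piece -/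
theorem isUnivClosedMor_of_dense {U X Y : Sp S} (hU : IsAlgSpace U) (hX : IsAlgSpace X) (hY : IsAlgSpace Y)
    (f : X ⟶ Y) {h : U ⟶ X} (hq : IsQuasiCompactMor f) (hh : IsQuasiCompactMor h)
    (hd : DenseRange (Points.map h)) (hl : LiftsFrom f h) (hu : UniqFrom f h) : IsUnivClosedMor f := by
  refine isUnivClosedMor_of_affine_etale hX hY f fun Z _ g hg P fst snd sqP => ?_
  have hP : IsAlgSpace P := isAlgSpace_of_isPullback_space hY hX (IsAlgSpace.yon_obj Z) sqP
  have sqU := IsPullback.of_hasPullback h fst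
  have hU' : IsAlgSpace (pullback h fst) := isAlgSpace_of_isPullback_space hX hU hP sqU
  refine isUnivClosedMor_of_existVC hP (IsAlgSpace.yon_obj Z) snd
    (fun _ _ hW hWq g' _ _ sqW => hq hW hWq (g' ≫ g) _ _ (sqW.paste_horiz sqP)) ?_
  exact existVC_of_dense_affine hP hU' snd (quasiCompact_baseChange sqU hh)
    (dense_baseChange hX hY hg sqP sqU hd) (liftsFrom_baseChange sqP sqU.w hl) (uniqFrom_baseChange sqP sqU.w hu)

theorem liftsFrom_diagonal {U X Y : Sp S} {f : X ⟶ Y} {h : U ⟶ X} (hu : UniqFrom f h) :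
    LiftsFrom (pullback.diagonal f) h := by
  rintro sq ⟨t, ht⟩
  have c1 : (yon S).map sq.j ≫ sq.bot ≫ pullback.fst f f = sq.top := by
    rw [← Category.assoc, ← sq.comm, Category.assoc, pullback.diagonal_fst, Category.comp_id]
  have c2 : (yon S).map sq.j ≫ sq.bot ≫ pullback.snd f f = sq.top := by
    rw [← Category.assoc, ← sq.comm, Category.assoc, pullback.diagonal_snd, Category.comp_id]
  have e : sq.bot ≫ pullback.fst f f = sq.bot ≫ pullback.snd f f :=
    hu { A := sq.A, K := sq.K, str := sq.str, top := sq.top, bot := sq.bot ≫ pullback.fst f f ≫ f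
         comm := by rw [← c1, Category.assoc, Category.assoc] } ⟨t, ht⟩ _ _ c1 (Category.assoc _ _ _) c2
      ((Category.assoc _ _ _).trans (congrArg (sq.bot ≫ ·) pullback.condition.symm))
  refine hasLiftExt_of_hasLift ⟨sq.bot ≫ pullback.fst f f, c1, ?_⟩
  apply pullback.hom_ext
  · simp
  · simpa using e

theorem uniqFrom_diagonal {U X Y : Sp S} {f : X ⟶ Y} {h : U ⟶ X} : UniqFrom (pullback.diagonal f) h := by
  intro sq _ l l' _ h2 _ h4
  have := congrArg (· ≫ pullback.fst f f) (h2.trans h4.symm)
  simpa using this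

/-- separated from uniqueness for squares with generic point in a dense quasi-compact piece -/
theorem isSeparatedMor_of_dense {U X Y : Sp S} (hU : IsAlgSpace U) (hX : IsAlgSpace X) (hY : IsAlgSpace Y)
    (f : X ⟶ Y) {h : U ⟶ X} (hqs : IsQuasiSeparatedMor f) (hh : IsQuasiCompactMor h)
    (hd : DenseRange (Points.map h)) (hu : UniqFrom f h) : IsSeparatedMor f := by
  have hB : IsAlgSpace (pullback f f) :=
    isAlgSpace_of_isPullback_space hY hX hX (IsPullback.of_hasPullback f f)
  exact (isSeparatedMor_iff_diagonal hX hY f).1.2 (isUnivClosedMor_of_dense hU hX hB _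
    ((isQuasiCompactMor_iff_repWith hX hB (repWith_diagonal_props hX f).1.1).2 hqs) hh hd
    (liftsFrom_diagonal hu) uniqFrom_diagonal)

end Groth.Agent.ValLib
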