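import Groth.Agent.DvrDom.KrullAkizuki
import Mathlib.RingTheory.DedekindDomain.IntegralClosure
import Mathlib.RingTheory.DiscreteValuationRing.Basic
import Mathlib.RingTheory.Valuation.ValuationSubring
import Mathlib.RingTheory.Valuation.Integral
import Mathlib.Algebra.GCDMonoid.IntegrallyClosed
import Mathlib.RingTheory.Bezout
import Mathlib.RingTheory.Valuation.LocalSubring

/-!
# Extensions of discrete valuation rings in finite separable field extensions
-/

universe u

namespace Groth.Agent.ValLib

/-- a valuation ring dominating a discrete valuation ring in a finite separable extension is discrete -/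
theorem isDiscreteValuationRing_of_finSep {A K A' L : Type u} [CommRing A] [IsDomain A] [IsDiscreteValuationRing A]
    [Field K] [Algebra A K] [IsFractionRing A K] [CommRing A'] [IsDomain A'] [ValuationRing A'] [Field L]
    [Algebra A' L] [IsFractionRing A' L] (φ : A →+* A') (hφ : IsLocalHom φ) (ψ : K →+* L)
    (comm : (algebraMap A' L).comp φ = ψ.comp (algebraMap A K))
    (h : letI := ψ.toAlgebra; Module.Finite K L ∧ Algebra.IsSeparable K L) : IsDiscreteValuationRing A' := by
  let _ : Algebra K L := ψ.toAlgebra
  let _ : Algebra A L := (ψ.comp (algebraMap A K)).toAlgebra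
  have : IsScalarTower A K L := .of_algebraMap_eq fun _ => rfl
  have : Module.Finite K L := h.1
  have : Algebra.IsSeparable K L := h.2
  let C := integralClosure A L
  have hded : IsDedekindDomain C := integralClosure.isDedekindDomain A K L
  have : IsFractionRing C L := integralClosure.isFractionRing_of_finite_extension K L
  have : Ring.KrullDimLE 1 C := inferInstance
  have : IsIntegrallyClosed A' := by
    classical
    let := IsBezout.toGCDDomain A'
    exact GCDMonoid.toIsIntegrallyClosed
  have hmem : ∀ c : C, (c : L) ∈ Set.range (algebraMap A' L) := fun c => by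
    have h1 : IsIntegral A (c : L) := c.2
    have h2 : IsIntegral A' (c : L) := by
      obtain ⟨p, hp, hpc⟩ := h1
      refine ⟨p.map φ, hp.map φ, ?_⟩
      rw [Polynomial.eval₂_map, comm]
      exact hpc
    obtain ⟨y, hy⟩ := IsIntegrallyClosed.isIntegral_iff.1 h2
    exact ⟨y, hy⟩
  let D : Subalgebra C L :=
    { (algebraMap A' L).range with algebraMap_mem' := fun c => hmem c }
  have hD : IsNoetherianRing D := DvrDom.isNoetherianRing_subalgebra D
  let e : D ≃+* A' := (RingEquiv.ofBijective (algebraMap A' L).rangeRestrict
    ⟨fun a b h => IsFractionRing.injective A' L (congrArg Subtype.val h),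
      (algebraMap A' L).rangeRestrict_surjective⟩).symm
  have : IsNoetherianRing A' := isNoetherianRing_of_ringEquiv D e
  have : IsPrincipalIdealRing A' := ⟨fun I => IsBezout.isPrincipal_of_FG I (IsNoetherian.noetherian I)⟩
  refine { not_a_field' := fun h0 => ?_ }
  obtain ⟨t, ht⟩ := IsDiscreteValuationRing.exists_irreducible A
  have h1 : φ t ∈ IsLocalRing.maximalIdeal A' := fun hu => ht.not_isUnit (hφ.map_nonunit t hu)
  rw [h0, Ideal.mem_bot] at h1
  have h2 : ψ (algebraMap A K t) = 0 := by rw [← RingHom.comp_apply, ← comm, RingHom.comp_apply, h1, map_zero]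
  exact ht.ne_zero (IsFractionRing.injective A K (by rw [map_zero]; exact ψ.injective (h2.trans (map_zero _).symm)))

end Groth.Agent.ValLib
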