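import Groth.Agent.ValLib.FtCriterion
import Groth.Agent.ValLib.Basic
import Groth.Agent.DvrDom.Scheme
import Mathlib.AlgebraicGeometry.Morphisms.FiniteType
import Mathlib.AlgebraicGeometry.Noetherian

/-!
# Universally closed morphisms by discrete valuation rings over a locally Noetherian base
-/

universe u

open CategoryTheory CategoryTheory.Limits AlgebraicGeometry Opposite IsLocalRing TensorProduct

set_option backward.isDefEq.respectTransparency false

namespace Groth.Agent.ValLib

open _root_.AlgSp Groth.Agent.AlgSpLib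

variable {S : Scheme.{u}}

/-- closedness over a Noetherian affine scheme from discrete valuation rings -/
theorem isClosedMap_of_dvr {W : Sp S} {Z U : Over S} [IsAffine Z.left] [IsLocallyNoetherian Z.left]
    [IsAffine U.left] (snd : W ⟶ (yon S).obj Z) (π : (yon S).obj U ⟶ W) (hπs : Function.Surjective (Points.ofPt π))
    (h : U ⟶ Z) (hh : (yon S).map h = π ≫ snd) [LocallyOfFiniteType h.left]
    (hv : ∀ sq : ValSq snd, IsDiscreteValuationRing sq.A → sq.HasLiftExt) : IsClosedMap (Points.map snd) := by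
  intro E hE
  have hpt : ∀ u, Points.map snd (Points.ofPt π u) = Points.ofScheme Z (h.left u) := fun u => by
    rw [Points.map_ofPt, ← hh, ofScheme_map]
  have him : Points.map snd '' E = Points.schemeHomeo Z '' (h.left '' (Points.ofPt π ⁻¹' E)) := by
    rw [Set.image_image]
    ext y
    constructor
    · rintro ⟨w, hw, rfl⟩
      obtain ⟨u, rfl⟩ := hπs w
      exact ⟨u, hw, (hpt u).symm⟩
    · rintro ⟨u, hu, rfl⟩
      exact ⟨_, hu, hpt u⟩
  rw [him, (Points.schemeHomeo Z).isClosed_image]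
  refine isClosed_image_of_stable h.left (hE.preimage (Points.continuous_ofPt π)) ?_
  rintro z' z hzz ⟨u, hu, rfl⟩
  by_cases hne : z = h.left u
  · exact hne ▸ ⟨u, hu, rfl⟩
  obtain ⟨A, β, hAd, hβ, hw⟩ := DvrDom.exists_dvr_through h.left u z hzz hne
  let ptA : Over S := Over.mk (β ≫ Z.hom)
  let ptK : Over S := Over.mk (Spec.map (CommRingCat.ofHom (algebraMap A (U.left.residueField u))) ≫ β ≫ Z.hom)
  have w : U.left.fromSpecResidueField u ≫ h.left =
      Spec.map (CommRingCat.ofHom (algebraMap A (U.left.residueField u))) ≫ β := hw.symm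
  let k : ptK ⟶ U := Over.homMk (U.left.fromSpecResidueField u) (by
    show U.left.fromSpecResidueField u ≫ U.hom = _ ≫ β ≫ Z.hom
    rw [← Over.w h, reassoc_of% w])
  let b : ptA ⟶ Z := Over.homMk β rfl
  have comm : ((yon S).map k ≫ π) ≫ snd = (yon S).map (Over.homMk (Spec.map (CommRingCat.ofHom
      (algebraMap A (U.left.residueField u)))) rfl : ptK ⟶ ptA) ≫ (yon S).map b := by
    rw [Category.assoc, ← hh, ← Functor.map_comp, ← Functor.map_comp]
    congr 1
    exact Over.OverMorphism.ext w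
  let sq : ValSq snd :=
    { A := A, K := U.left.residueField u, str := β ≫ Z.hom, top := (yon S).map k ≫ π, bot := (yon S).map b,
      comm := comm }
  obtain ⟨e, l, hl₁, hl₂⟩ := hv sq hAd
  let gen : e.ptK' ⟶ e.ptA' := Over.homMk (Spec.map (CommRingCat.ofHom (algebraMap e.A' e.K'))) rfl
  let η : ↥e.ptA'.left := gen.left (closedPoint e.K')
  let c₀ : ↥e.ptA'.left := closedPoint e.A'
  have hgen : Points.ofPt l η = Points.ofPt π u := by
    rw [← ofPt_comp gen l, show (yon S).map gen ≫ l = _ from hl₁, ofPt_comp]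
    change Points.ofPt ((yon S).map k ≫ π) _ = _
    rw [ofPt_comp]
    exact congrArg (Points.ofPt π) (Scheme.fromSpecResidueField_apply _ _)
  have hspec : Points.ofPt l η ⤳ Points.ofPt l c₀ :=
    (specializes_closedPoint _).map (Points.continuous_ofPt l)
  have hmem : Points.ofPt l c₀ ∈ E := hE.stableUnderSpecialization (hgen ▸ hspec) hu
  obtain ⟨u', hu'⟩ := hπs (Points.ofPt l c₀)
  refine ⟨u', show Points.ofPt π u' ∈ E from hu' ▸ hmem, (Points.schemeEquiv Z).injective ?_⟩
  show Points.ofScheme Z (h.left u') = Points.ofScheme Z z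
  rw [← hpt, hu', Points.map_ofPt, hl₂, ofPt_comp]
  show Points.ofPt ((yon S).map b) _ = _
  rw [ofScheme_map]
  refine congrArg (Points.ofScheme Z) ?_
  have := e.isLocalHom
  have h1 : Spec.map (CommRingCat.ofHom e.φ) (closedPoint e.A') = closedPoint A := comap_closedPoint e.φ
  show β (Spec.map (CommRingCat.ofHom e.φ) (closedPoint e.A')) = z
  rw [h1, hβ]

/-- DVR lifting passes to base changes -/
theorem dvrExistence_of_isPullback {X Y W : Sp S} {Z : Over S} {f : X ⟶ Y} {g : (yon S).obj Z ⟶ Y} {fst : W ⟶ X}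
    {snd : W ⟶ (yon S).obj Z} (sqW : IsPullback fst snd f g)
    (h : ∀ sq : ValSq f, IsDiscreteValuationRing sq.A → sq.HasLiftExt) (sq : ValSq snd)
    (hd : IsDiscreteValuationRing sq.A) : sq.HasLiftExt := by
  obtain ⟨e, l, h1, h2⟩ := h { A := sq.A, K := sq.K, str := sq.str, top := sq.top ≫ fst, bot := sq.bot ≫ g
                               comm := by rw [Category.assoc, sqW.w, ← Category.assoc, sq.comm, Category.assoc] } hd
  let e' : sq.DomExt := { A' := e.A', K' := e.K', φ := e.φ, ψ := e.ψ, comm := e.comm, isLocalHom := e.isLocalHom }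
  refine ⟨e', sqW.lift l ((yon S).map (Over.homMk (Spec.map (CommRingCat.ofHom e.φ)) rfl :
    e'.ptA' ⟶ sq.ptA) ≫ sq.bot) (h2.trans (Category.assoc _ _ _).symm), sqW.hom_ext ?_ ?_, sqW.lift_snd _ _ _⟩
  · rw [Category.assoc, sqW.lift_fst, Category.assoc]
    exact h1
  · refine (Category.assoc _ _ _).trans ((congrArg (_ ≫ ·) (sqW.lift_snd _ _ _)).trans ?_)
    refine Eq.trans ?_ ((Category.assoc _ _ _).trans (congrArg (_ ≫ ·) sq.comm)).symm
    refine (Category.assoc _ _ _).symm.trans (Eq.trans ?_ (Category.assoc _ _ _))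
    rw [← Functor.map_comp, ← Functor.map_comp]
    congr 2
    refine Over.OverMorphism.ext ?_
    show Spec.map _ ≫ Spec.map _ = Spec.map _ ≫ Spec.map _
    rw [← Spec.map_comp, ← Spec.map_comp, ← CommRingCat.ofHom_comp, ← CommRingCat.ofHom_comp, e.comm]

/-- `Spec B` over `S` through an `R`-algebra -/
noncomputable abbrev algPt {R : Type u} [CommRing R] (str : Spec (CommRingCat.of R) ⟶ S) (B : Type u) [CommRing B]
    [Algebra R B] : Over S :=
  Over.mk (Spec.map (CommRingCat.ofHom (algebraMap R B)) ≫ str)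

/-- the morphism of an algebra map -/
noncomputable def algPtMap {R : Type u} [CommRing R] (str : Spec (CommRingCat.of R) ⟶ S) {B B' : Type u}
    [CommRing B] [Algebra R B] [CommRing B'] [Algebra R B'] (φ : B →ₐ[R] B') : algPt str B' ⟶ algPt str B :=
  Over.homMk (Spec.map (CommRingCat.ofHom φ.toRingHom)) (by
    show Spec.map _ ≫ Spec.map _ ≫ str = _
    rw [← Spec.map_comp_assoc, ← CommRingCat.ofHom_comp]
    exact congrArg (fun r => Spec.map (CommRingCat.ofHom r) ≫ str) φ.comp_algebraMap)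

lemma algPtMap_comp {R : Type u} [CommRing R] (str : Spec (CommRingCat.of R) ⟶ S) {B B' B'' : Type u}
    [CommRing B] [Algebra R B] [CommRing B'] [Algebra R B'] [CommRing B''] [Algebra R B''] (φ : B →ₐ[R] B')
    (ψ : B' →ₐ[R] B'') : algPtMap str ψ ≫ algPtMap str φ = algPtMap str (ψ.comp φ) :=
  Over.OverMorphism.ext (Spec.map_comp _ _).symm

theorem exists_chart_baseChange {R C : Type u} [CommRing R] [CommRing C] [Algebra R C]
    (str : Spec (CommRingCat.of R) ⟶ S) {P : Sp S} (snd : P ⟶ (yon S).obj (Over.mk str))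
    (π : (yon S).obj (algPt str C) ⟶ P) (hπ : RepWith @Etale π) (hπs : RepWith @Surjective π)
    (hh : π ≫ snd = (yon S).map (Over.homMk (Spec.map (CommRingCat.ofHom (algebraMap R C))) rfl :
      algPt str C ⟶ Over.mk str))
    (B : Type u) [CommRing B] [Algebra R B] {W : Sp S} {fst' : W ⟶ P} {snd' : W ⟶ (yon S).obj (algPt str B)}
    (sq : IsPullback fst' snd' snd ((yon S).map (Over.homMk (Spec.map (CommRingCat.ofHom (algebraMap R B))) rfl :
      algPt str B ⟶ Over.mk str))) :
    ∃ c : (yon S).obj (algPt str (C ⊗[R] B)) ⟶ W,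
      RepWith @Etale c ∧ RepWith @Surjective c ∧
      c ≫ snd' = (yon S).map (algPtMap str Algebra.TensorProduct.includeRight) ∧
      c ≫ fst' = (yon S).map (algPtMap str Algebra.TensorProduct.includeLeft) ≫ π ∧
      IsPullback ((yon S).map (algPtMap str Algebra.TensorProduct.includeLeft)) c π fst' := by
  have hsq : IsPullback ((yon S).map (algPtMap str (Algebra.TensorProduct.includeLeft : C →ₐ[R] C ⊗[R] B)))
      ((yon S).map (algPtMap str (Algebra.TensorProduct.includeRight : B →ₐ[R] C ⊗[R] B)))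
      ((yon S).map (Over.homMk (Spec.map (CommRingCat.ofHom (algebraMap R C))) rfl : algPt str C ⟶ Over.mk str))
      ((yon S).map (Over.homMk (Spec.map (CommRingCat.ofHom (algebraMap R B))) rfl : algPt str B ⟶ Over.mk str)) :=
    isPullback_yon_iff.2 (isPullback_SpecMap_of_isPushout _ _ _ _ (CommRingCat.isPushout_tensorProduct R C B))
  obtain ⟨c, hc⟩ : ∃ c, c = sq.lift ((yon S).map (algPtMap str (Algebra.TensorProduct.includeLeft :
      C →ₐ[R] C ⊗[R] B)) ≫ π) ((yon S).map (algPtMap str (Algebra.TensorProduct.includeRight :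
      B →ₐ[R] C ⊗[R] B))) (by rw [Category.assoc, hh]; exact hsq.w) := ⟨_, rfl⟩
  have e1 : c ≫ fst' = (yon S).map (algPtMap str Algebra.TensorProduct.includeLeft) ≫ π := by rw [hc, sq.lift_fst]
  have e2 : c ≫ snd' = (yon S).map (algPtMap str Algebra.TensorProduct.includeRight) := by rw [hc, sq.lift_snd]
  have sqc : IsPullback ((yon S).map (algPtMap str Algebra.TensorProduct.includeLeft)) c π fst' := by
    refine IsPullback.of_bot ?_ e1.symm sq
    rw [e2, hh]
    exact hsq
  exact ⟨c, repWith_baseChange sqc hπ, repWith_baseChange sqc hπs, e2, e1, sqc⟩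

/-- closedness after finite type base changes gives closedness after all affine base changes -/
theorem isClosedMap_of_ft {R C : Type u} [CommRing R] [CommRing C] [Algebra R C]
    (str : Spec (CommRingCat.of R) ⟶ S) {P : Sp S} (hP : IsAlgSpace P) (snd : P ⟶ (yon S).obj (Over.mk str))
    (π : (yon S).obj (algPt str C) ⟶ P) (hπ : RepWith @Etale π) (hπs : RepWith @Surjective π)
    (hh : π ≫ snd = (yon S).map (Over.homMk (Spec.map (CommRingCat.ofHom (algebraMap R C))) rfl :
      algPt str C ⟶ Over.mk str))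
    (hft : ∀ (B₀ : Type u) [CommRing B₀] [Algebra R B₀], Algebra.FiniteType R B₀ → ∀ (W : Sp S) (fst' : W ⟶ P)
      (snd' : W ⟶ (yon S).obj (algPt str B₀)), IsPullback fst' snd' snd ((yon S).map (Over.homMk
        (Spec.map (CommRingCat.ofHom (algebraMap R B₀))) rfl : algPt str B₀ ⟶ Over.mk str)) →
        IsClosedMap (Points.map snd'))
    (B : Type u) [CommRing B] [Algebra R B] {W : Sp S} {fst' : W ⟶ P} {snd' : W ⟶ (yon S).obj (algPt str B)}
    (sq : IsPullback fst' snd' snd ((yon S).map (Over.homMk (Spec.map (CommRingCat.ofHom (algebraMap R B))) rfl :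
      algPt str B ⟶ Over.mk str))) : IsClosedMap (Points.map snd') := by
  obtain ⟨c, hce, hcs, hc2, hc1, sqc⟩ := exists_chart_baseChange str snd π hπ hπs hh B sq
  intro T hT
  have hclosed : IsClosed (Points.ofPt c ⁻¹' T) := hT.preimage (Points.continuous_ofPt c)
  obtain ⟨J, hJ⟩ := (PrimeSpectrum.isClosed_iff_zeroLocus_ideal _).1 hclosed
  rw [← (Points.schemeHomeo (algPt str B)).isClosed_preimage, ← isOpen_compl_iff, isOpen_iff_forall_mem_open]
  intro z hz
  let p : PrimeSpectrum B := z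
  have hpt : ∀ q : ↥(algPt str (C ⊗[R] B)).left, Points.map snd' (Points.ofPt c q) =
      Points.ofScheme (algPt str B)
        ((algPtMap str (Algebra.TensorProduct.includeRight : B →ₐ[R] C ⊗[R] B)).left q) := fun q => by
    rw [Points.map_ofPt, hc2, ofScheme_map]
  obtain ⟨B₀, hB₀, hempty⟩ := exists_fg_empty_fibre (R := R) (C := C) J p.asIdeal fun q hq hJq heq => by
    refine hz ⟨Points.ofPt c (⟨q, hq⟩ : PrimeSpectrum (C ⊗[R] B)), ?_, ?_⟩
    · show (⟨q, hq⟩ : PrimeSpectrum (C ⊗[R] B)) ∈ Points.ofPt c ⁻¹' T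
      rw [hJ]
      exact (PrimeSpectrum.mem_zeroLocus _ _).2 hJq
    · rw [hpt]
      exact congrArg (Points.ofScheme (algPt str B)) (PrimeSpectrum.ext heq)
  have hB₀ft : Algebra.FiniteType R B₀ := (Subalgebra.fg_iff_finiteType B₀).1 hB₀
  let γ₀ : algPt str B₀ ⟶ Over.mk str := Over.homMk (Spec.map (CommRingCat.ofHom (algebraMap R B₀))) rfl
  have sq₀ := IsPullback.of_hasPullback snd ((yon S).map γ₀)
  obtain ⟨c₀, hc₀e, hc₀s, hc₀2, hc₀1, sqc₀⟩ := exists_chart_baseChange str snd π hπ hπs hh B₀ sq₀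
  let δ : algPt str B ⟶ algPt str B₀ := algPtMap str B₀.val
  have hδ : δ ≫ γ₀ = (Over.homMk (Spec.map (CommRingCat.ofHom (algebraMap R B))) rfl :
      algPt str B ⟶ Over.mk str) := Over.OverMorphism.ext (by
    show Spec.map _ ≫ Spec.map _ = Spec.map _
    rw [← Spec.map_comp, ← CommRingCat.ofHom_comp]
    rfl)
  let ρ : W ⟶ pullback snd ((yon S).map γ₀) := sq₀.lift fst' (snd' ≫ (yon S).map δ) (by
    rw [Category.assoc, ← Functor.map_comp, hδ, sq.w])
  let tm : algPt str (C ⊗[R] B) ⟶ algPt str (C ⊗[R] B₀) := algPtMap str (tMap B₀)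
  have hl : tm ≫ algPtMap str (Algebra.TensorProduct.includeLeft : C →ₐ[R] C ⊗[R] B₀) =
      algPtMap str Algebra.TensorProduct.includeLeft := by
    rw [algPtMap_comp]
    exact congrArg (algPtMap str) (AlgHom.ext fun x => rfl)
  have hr : tm ≫ algPtMap str (Algebra.TensorProduct.includeRight : B₀ →ₐ[R] C ⊗[R] B₀) =
      algPtMap str Algebra.TensorProduct.includeRight ≫ δ := by
    rw [algPtMap_comp, algPtMap_comp]
    exact congrArg (algPtMap str) (AlgHom.ext fun x => rfl)
  have sqρ : IsPullback ((yon S).map tm) c c₀ ρ := by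
    refine IsPullback.of_right ?_ ?_ sqc₀
    · rw [← Functor.map_comp, hl, sq₀.lift_fst]
      exact sqc
    · apply sq₀.hom_ext
      · rw [Category.assoc, hc₀1, ← Functor.map_comp_assoc, hl, Category.assoc, sq₀.lift_fst, hc1]
      · rw [Category.assoc, hc₀2, Category.assoc, sq₀.lift_snd, ← Category.assoc, hc2, ← Functor.map_comp,
          ← Functor.map_comp, hr]
  let T₀ : Set (Points (pullback snd ((yon S).map γ₀))) := closure (Points.map ρ '' T)
  have hT₀ : IsClosed (Points.map (pullback.snd snd ((yon S).map γ₀)) '' T₀) :=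
    hft B₀ hB₀ft _ _ _ sq₀ T₀ isClosed_closure
  refine ⟨(fun z => Points.ofScheme (algPt str B₀) (δ.left z)) ⁻¹'
    (Points.map (pullback.snd snd ((yon S).map γ₀)) '' T₀)ᶜ, ?_, hT₀.isOpen_compl.preimage
      ((Points.continuous_ofPt _).comp δ.left.continuous), ?_⟩
  · intro z' hz' hmem
    obtain ⟨t, ht, htz⟩ := hmem
    refine hz' ⟨Points.map ρ t, subset_closure ⟨t, ht, rfl⟩, ?_⟩
    rw [← Points.map_comp, sq₀.lift_snd, Points.map_comp, htz]
    show Points.map ((yon S).map δ) (Points.ofPt (𝟙 _) z') = _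
    rw [Points.map_ofPt, Category.id_comp, ofScheme_map]
  · rintro ⟨t₀, ht₀, ht₀z⟩
    obtain ⟨q₀, rfl⟩ := ofPt_surjective hc₀s t₀
    let q₀' : PrimeSpectrum (C ⊗[R] B₀) := q₀
    have h2 := (isOpenMap_ofPt (repWith_universallyOpen_of_etale hc₀e)).preimage_closure_subset_closure_preimage
      (show q₀ ∈ Points.ofPt c₀ ⁻¹' T₀ from ht₀)
    have h3 : Points.ofPt c₀ ⁻¹' (Points.map ρ '' T) ⊆
        PrimeSpectrum.zeroLocus ((J.comap (tMap B₀).toRingHom : Ideal (C ⊗[R] B₀)) : Set (C ⊗[R] B₀)) := by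
      rintro u₀ ⟨t, ht, htu⟩
      obtain ⟨pu, hpu₁, hpu₂⟩ := exists_point_of_isPullback sqρ (Points.ofScheme _ u₀) t (by
        rw [htu, Points.map_ofPt, Category.id_comp])
      obtain ⟨u', rfl⟩ := (Points.schemeEquiv (algPt str (C ⊗[R] B))).surjective pu
      have e1 : Points.ofPt c u' = t := (Points.ofPt_eq_map_ofScheme c u').trans hpu₂
      have e2 : tm.left u' = u₀ := (Points.schemeEquiv (algPt str (C ⊗[R] B₀))).injective (by
        refine Eq.trans ?_ hpu₁
        show Points.ofScheme _ (tm.left u') = Points.map ((yon S).map tm) (Points.ofPt (𝟙 _) u')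
        rw [Points.map_ofPt, Category.id_comp, ofScheme_map])
      have hu' : u' ∈ Points.ofPt c ⁻¹' T := show Points.ofPt c u' ∈ T from e1 ▸ ht
      rw [hJ] at hu'
      rw [← e2]
      exact fun a ha => hu' ha
    have h4 : q₀ ∈ PrimeSpectrum.zeroLocus ((J.comap (tMap B₀).toRingHom : Ideal (C ⊗[R] B₀)) :
        Set (C ⊗[R] B₀)) := closure_minimal h3 (PrimeSpectrum.isClosed_zeroLocus _) h2
    refine hempty q₀'.asIdeal q₀'.isPrime h4 ?_
    rw [Points.map_ofPt, hc₀2, ofScheme_map] at ht₀z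
    exact congrArg PrimeSpectrum.asIdeal ((Points.schemeEquiv (algPt str B₀)).injective ht₀z)

end Groth.Agent.ValLib
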