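import Groth.Agent.ValLib.LocalLift
import Groth.Agent.DvrDom.Composite
import Groth.Agent.ValSep.Basic

/-!
# Composite valuation rings, extensions and amalgamation
-/

universe u

open CategoryTheory CategoryTheory.Limits AlgebraicGeometry Opposite IsLocalRing

set_option backward.isDefEq.respectTransparency false

namespace Groth.Agent.ValLib

/-- two field points of a scheme with the same image have a common extension -/
theorem exists_field_amalgam {W : Scheme.{u}} {L₁ L₂ : Type u} [Field L₁] [Field L₂]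
    (m₁ : Spec (CommRingCat.of L₁) ⟶ W) (m₂ : Spec (CommRingCat.of L₂) ⟶ W)
    (h : m₁ (closedPoint L₁) = m₂ (closedPoint L₂)) :
    ∃ (Ω : Type u) (_ : Field Ω) (i₁ : L₁ →+* Ω) (i₂ : L₂ →+* Ω),
      Spec.map (CommRingCat.ofHom i₁) ≫ m₁ = Spec.map (CommRingCat.ofHom i₂) ≫ m₂ := by
  obtain ⟨z, -, -⟩ := Scheme.Pullback.exists_preimage_pullback (f := m₁) (g := m₂) _ _ h
  obtain ⟨i₁, hi₁⟩ := Spec.map_surjective ((pullback m₁ m₂).fromSpecResidueField z ≫ pullback.fst m₁ m₂)
  obtain ⟨i₂, hi₂⟩ := Spec.map_surjective ((pullback m₁ m₂).fromSpecResidueField z ≫ pullback.snd m₁ m₂)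
  refine ⟨(pullback m₁ m₂).residueField z, inferInstance, i₁.hom, i₂.hom, ?_⟩
  show Spec.map i₁ ≫ m₁ = Spec.map i₂ ≫ m₂
  rw [hi₁, hi₂, Category.assoc, Category.assoc, pullback.condition]

/-- the inclusion of a composite valuation ring -/
def compIncl {L : Type u} [Field L] (B : ValuationSubring L) (V : ValuationSubring (ResidueField B)) :
    DvrDom.composite B V →+* B :=
  (DvrDom.composite B V).subtype.codRestrict B.toSubring fun x => x.2.1

/-- compatible morphisms on a valuation ring and on a residual one glue on the composite -/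
theorem exists_map_composite {Z : Scheme.{u}} [IsAffine Z] {L Ω : Type u} [Field L] [Field Ω]
    (B : ValuationSubring L) (ι : ResidueField B →+* Ω) (A₁ : ValuationSubring Ω)
    (βB : Spec (CommRingCat.of B) ⟶ Z) (β₁ : Spec (CommRingCat.of A₁) ⟶ Z)
    (h : Spec.map (CommRingCat.ofHom A₁.subtype) ≫ β₁ =
      Spec.map (CommRingCat.ofHom ι) ≫ Spec.map (CommRingCat.ofHom (residue B)) ≫ βB) :
    ∃ βC : Spec (CommRingCat.of (DvrDom.composite B (A₁.comap ι))) ⟶ Z,
      Spec.map (CommRingCat.ofHom (compIncl B (A₁.comap ι))) ≫ βC = βB := by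
  obtain ⟨ρB, hρB⟩ := Spec.map_surjective (βB ≫ Z.isoSpec.hom)
  obtain ⟨ρ₁, hρ₁⟩ := Spec.map_surjective (β₁ ≫ Z.isoSpec.hom)
  have e : ρ₁ ≫ CommRingCat.ofHom A₁.subtype =
      ρB ≫ CommRingCat.ofHom (residue B) ≫ CommRingCat.ofHom ι := Spec.map_injective (by
    rw [Spec.map_comp, Spec.map_comp, Spec.map_comp, hρ₁, hρB, reassoc_of% h, Category.assoc])
  let σ : Γ(Z, ⊤) ⟶ CommRingCat.of (DvrDom.composite B (A₁.comap ι)) :=
    CommRingCat.ofHom ((B.subtype.comp ρB.hom).codRestrict (DvrDom.composite B (A₁.comap ι)).toSubring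
      fun r => ⟨(ρB.hom r).2, by
        show ι (residue B (ρB.hom r)) ∈ A₁
        rw [show ι (residue B (ρB.hom r)) = (ρ₁.hom r : Ω) from congr($(e) r).symm]
        exact (ρ₁.hom r).2⟩)
  refine ⟨Spec.map σ ≫ Z.isoSpec.inv, ?_⟩
  rw [← Spec.map_comp_assoc, show σ ≫ CommRingCat.ofHom (compIncl B (A₁.comap ι)) = ρB from rfl, hρB]
  simp

/-- the generic point specializes to everything -/
theorem generic_specializes {A K : Type u} [CommRing A] [IsDomain A] [Field K] [Algebra A K] [IsFractionRing A K]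
    (q : Spec (CommRingCat.of A)) :
    Spec.map (CommRingCat.ofHom (algebraMap A K)) (closedPoint K) ⤳ q := by
  refine (PrimeSpectrum.le_iff_specializes _ _).1 ?_
  show (maximalIdeal K).comap (algebraMap A K) ≤ _
  rw [IsLocalRing.maximalIdeal_eq_bot, ← RingHom.ker_eq_comap_bot,
    (RingHom.injective_iff_ker_eq_bot _).1 (IsFractionRing.injective A K)]
  exact bot_le

/-- an extension of a composite valuation ring gives an extension of the big ring and a residual one -/
theorem exists_valuation_above {L L' C' : Type u} [Field L] [Field L'] [CommRing C'] [IsDomain C']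
    [ValuationRing C'] [Algebra C' L'] [IsFractionRing C' L'] (B : ValuationSubring L)
    (V : ValuationSubring (ResidueField B)) (φ : DvrDom.composite B V →+* C') (ψ : L →+* L')
    (comm : (algebraMap C' L').comp φ = ψ.comp (DvrDom.composite B V).subtype) (hφ : IsLocalHom φ) :
    ∃ (B' : ValuationSubring L') (i : B →+* B') (ι : C' →+* B') (A₂ : ValuationSubring (ResidueField B'))
      (ρ : C' →+* A₂) (j : ResidueField B →+* ResidueField B') (χ : V →+* A₂),
      B'.subtype.comp i = ψ.comp B.subtype ∧ B'.subtype.comp ι = algebraMap C' L' ∧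
      ι.comp φ = i.comp (compIncl B V) ∧ j.comp (residue B) = (residue B').comp i ∧
      A₂.subtype.comp ρ = (residue B').comp ι ∧ IsLocalHom χ ∧ A₂.subtype.comp χ = j.comp V.subtype := by
  have hinj : Function.Injective φ := fun a b e => by
    apply Subtype.val_injective
    apply ψ.injective
    exact ((congr($(comm) a)).symm.trans (congrArg (algebraMap C' L') e)).trans congr($(comm) b)
  let _ : Algebra (DvrDom.composite B V) C' := φ.toAlgebra
  have : Module.Flat (DvrDom.composite B V) C' := ValSep.flat_of_injective hinj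
  have : IsLocalHom (algebraMap (DvrDom.composite B V) C') := hφ
  have : Module.FaithfullyFlat (DvrDom.composite B V) C' := Module.FaithfullyFlat.of_flat_of_isLocalHom
  obtain ⟨q, hq⟩ := PrimeSpectrum.comap_surjective_of_faithfullyFlat (A := DvrDom.composite B V) (B := C')
    ⟨(maximalIdeal B).comap (compIncl B V), Ideal.IsPrime.comap _⟩
  obtain ⟨B', c, hc, hcm⟩ := exists_valuation_of_specializes (Spec.map (CommRingCat.ofHom (algebraMap C' L')))
    (w := q) (generic_specializes q)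
  obtain ⟨ι, rfl⟩ := Spec.map_surjective c
  have hι : B'.subtype.comp ι.hom = algebraMap C' L' := by
    rw [← Spec.map_comp] at hcm
    exact congrArg CommRingCat.Hom.hom (Spec.map_injective hcm)
  have hval : ∀ x : DvrDom.composite B V, ((ι.hom (φ x) : B') : L') = ψ (x : L) := fun x =>
    (congr($(hι) (φ x))).trans congr($(comm) x)
  have hmax : ∀ x : DvrDom.composite B V, ι.hom (φ x) ∈ maximalIdeal B' ↔ compIncl B V x ∈ maximalIdeal B := by
    intro x
    have h1 := congrArg PrimeSpectrum.asIdeal hc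
    have h2 := congrArg PrimeSpectrum.asIdeal hq
    change (maximalIdeal B').comap ι.hom = q.asIdeal at h1
    change q.asIdeal.comap φ = (maximalIdeal B).comap (compIncl B V) at h2
    rw [← Ideal.mem_comap (f := compIncl B V), ← h2, Ideal.mem_comap, ← h1, Ideal.mem_comap]
  have hsmall : ∀ b : B, b ∈ maximalIdeal B → (b : L) ∈ DvrDom.composite B V := fun b hb =>
    ⟨b.2, by
      have : residue B (⟨(b : L), b.2⟩ : B) = 0 := (residue_eq_zero_iff _).2 hb
      rw [this]
      exact V.zero_mem⟩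
  have hmem : ∀ b : B, ψ (b : L) ∈ B' := by
    intro b
    by_cases hb : (b : L) ∈ DvrDom.composite B V
    · exact hval ⟨b, hb⟩ ▸ (ι.hom (φ ⟨b, hb⟩)).2
    have hb' := ((DvrDom.composite B V).mem_or_inv_mem (b : L)).resolve_left hb
    have hb0 : (b : L) ≠ 0 := fun e => hb (by rw [e]; exact zero_mem _)
    have hu : IsUnit (ι.hom (φ ⟨_, hb'⟩)) := by
      by_contra hu
      have := (hmax ⟨_, hb'⟩).1 ((mem_maximalIdeal _).2 hu)
      exact (mem_maximalIdeal _).1 this (IsUnit.of_mul_eq_one b (Subtype.ext (inv_mul_cancel₀ hb0)))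
    obtain ⟨w, hw⟩ := hu.exists_right_inv
    have h1 : ψ ((b : L)⁻¹) * (w : L') = 1 := by rw [← hval ⟨_, hb'⟩]; exact congrArg Subtype.val hw
    have h2 : (w : L') = ψ (b : L) := by
      rw [map_inv₀, inv_mul_eq_one₀ (by simpa using hb0)] at h1
      exact h1.symm
    exact h2 ▸ w.2
  let i : B →+* B' := (ψ.comp B.subtype).codRestrict B'.toSubring hmem
  have hιi : ι.hom.comp φ = i.comp (compIncl B V) := RingHom.ext fun x => Subtype.ext (hval x)
  have : IsLocalHom i := by
    constructor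
    intro b hb
    by_contra hnb
    have hbm := (mem_maximalIdeal b).2 hnb
    have h1 := (hmax ⟨_, hsmall b hbm⟩).2 hbm
    rw [show ι.hom (φ ⟨_, hsmall b hbm⟩) = i b from congr($(hιi) ⟨_, hsmall b hbm⟩)] at h1
    exact (mem_maximalIdeal _).1 h1 hb
  obtain ⟨A₂, hA₂, hA₂l⟩ := exists_factor_valuationRing ((residue B').comp ι.hom)
  let ρ : C' →+* A₂ := ((residue B').comp ι.hom).codRestrict A₂.toSubring hA₂
  have : IsLocalHom ρ := hA₂l
  let j : ResidueField B →+* ResidueField B' := ResidueField.map i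
  have hlift : ∀ x : V, ∃ y : DvrDom.composite B V, residue B (compIncl B V y) = (x : ResidueField B) := by
    intro x
    obtain ⟨b, hb⟩ := residue_surjective (x : ResidueField B)
    refine ⟨⟨b, b.2, ?_⟩, hb⟩
    show residue B b ∈ V
    rw [hb]
    exact x.2
  have hj : ∀ y, j (residue B (compIncl B V y)) = (ρ (φ y) : ResidueField B') := fun y =>
    (ResidueField.map_residue i _).trans (congrArg (residue B') congr($(hιi) y).symm)
  let χ : V →+* A₂ := (j.comp V.subtype).codRestrict A₂.toSubring fun x => by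
    obtain ⟨y, hy⟩ := hlift x
    show j x ∈ A₂
    rw [← hy, hj]
    exact (ρ (φ y)).2
  refine ⟨B', i, ι.hom, A₂, ρ, j, χ, rfl, hι, hιi, RingHom.ext fun b => ResidueField.map_residue i b, rfl, ?_,
    rfl⟩
  constructor
  intro x hx
  obtain ⟨y, hy⟩ := hlift x
  have e : χ x = ρ (φ y) := Subtype.ext ((congrArg j hy.symm).trans (hj y))
  rw [e] at hx
  have hy' := (hφ.map_nonunit y (isUnit_of_map_unit ρ _ hx)).map (DvrDom.compositeRes B V)
  rwa [show DvrDom.compositeRes B V y = x from Subtype.ext hy] at hy'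

/-- two dominating extensions of a valuation ring are dominated by a third one -/
theorem exists_valuation_amalgam {A₀ K₀ A₁ K₁ A₂ K₂ : Type u} [CommRing A₀] [IsDomain A₀] [ValuationRing A₀]
    [Field K₀] [Algebra A₀ K₀] [IsFractionRing A₀ K₀] [CommRing A₁] [IsDomain A₁] [ValuationRing A₁] [Field K₁]
    [Algebra A₁ K₁] [IsFractionRing A₁ K₁] [CommRing A₂] [IsDomain A₂] [ValuationRing A₂] [Field K₂]
    [Algebra A₂ K₂] [IsFractionRing A₂ K₂] (φ₁ : A₀ →+* A₁) (ψ₁ : K₀ →+* K₁)
    (c₁ : (algebraMap A₁ K₁).comp φ₁ = ψ₁.comp (algebraMap A₀ K₀)) (h₁ : IsLocalHom φ₁) (φ₂ : A₀ →+* A₂)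
    (ψ₂ : K₀ →+* K₂) (c₂ : (algebraMap A₂ K₂).comp φ₂ = ψ₂.comp (algebraMap A₀ K₀)) (h₂ : IsLocalHom φ₂) :
    ∃ (Φ : Type u) (_ : Field Φ) (A₄ : ValuationSubring Φ) (χ₁ : A₁ →+* A₄) (χ₂ : A₂ →+* A₄) (ω₁ : K₁ →+* Φ)
      (ω₂ : K₂ →+* Φ), IsLocalHom χ₁ ∧ IsLocalHom χ₂ ∧ A₄.subtype.comp χ₁ = ω₁.comp (algebraMap A₁ K₁) ∧
      A₄.subtype.comp χ₂ = ω₂.comp (algebraMap A₂ K₂) ∧ ω₁.comp ψ₁ = ω₂.comp ψ₂ := by
  let f₁ := Spec.map (CommRingCat.ofHom φ₁)
  let f₂ := Spec.map (CommRingCat.ofHom φ₂)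
  have inj : ∀ {A K : Type u} [CommRing A] [Field K] [Algebra A K] (φ : A₀ →+* A) (ψ : K₀ →+* K),
      (algebraMap A K).comp φ = ψ.comp (algebraMap A₀ K₀) → Function.Injective φ := by
    intro A K _ _ _ φ ψ c a b e
    apply IsFractionRing.injective A₀ K₀
    apply ψ.injective
    exact ((congr($(c) a)).symm.trans (congrArg (algebraMap A K) e)).trans congr($(c) b)
  have : Flat f₁ := by
    let _ := φ₁.toAlgebra
    exact HasRingHomProperty.Spec_iff.2 (RingHom.flat_algebraMap_iff.2 (ValSep.flat_of_injective (inj φ₁ ψ₁ c₁)))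
  have : Flat f₂ := by
    let _ := φ₂.toAlgebra
    exact HasRingHomProperty.Spec_iff.2 (RingHom.flat_algebraMap_iff.2 (ValSep.flat_of_injective (inj φ₂ ψ₂ c₂)))
  obtain ⟨p, hp₁, hp₂⟩ := Scheme.Pullback.exists_preimage_pullback (f := f₁) (g := f₂) (closedPoint A₁)
    (closedPoint A₂) (Eq.trans (comap_closedPoint φ₁) (comap_closedPoint φ₂).symm)
  obtain ⟨p₁, hp₁p, he₁⟩ := Flat.generalizingMap (pullback.fst f₁ f₂)
    (generic_specializes (A := A₁) (K := K₁) (pullback.fst f₁ f₂ p))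
  obtain ⟨p₀, hp₀p, he₂⟩ := Flat.generalizingMap (pullback.snd f₁ f₂)
    (generic_specializes (A := A₂) (K := K₂) (pullback.snd f₁ f₂ p₁))
  have he₁' : pullback.fst f₁ f₂ p₀ = Spec.map (CommRingCat.ofHom (algebraMap A₁ K₁)) (closedPoint K₁) :=
    (he₁ ▸ hp₀p.map (pullback.fst f₁ f₂).continuous).antisymm (generic_specializes _) |>.eq
  let P := pullback f₁ f₂
  let m : Spec (CommRingCat.of (P.residueField p₀)) ⟶ P := P.fromSpecResidueField p₀
  obtain ⟨A₄, c, hc, hcm⟩ := exists_valuation_of_specializes (L := P.residueField p₀) m (w := p)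
    ((Scheme.fromSpecResidueField_apply p₀ _).symm ▸ hp₀p.trans hp₁p)
  have hm : m (closedPoint (P.residueField p₀)) = p₀ := Scheme.fromSpecResidueField_apply p₀ _
  obtain ⟨ω₁, hω₁⟩ := exists_field_hom_of_generic (A := A₁) (K := K₁) (L := P.residueField p₀)
    (Field.toIsField _) (m ≫ pullback.fst f₁ f₂) (l := closedPoint _) (Eq.trans (congrArg (pullback.fst f₁ f₂) hm) he₁')
  obtain ⟨ω₂, hω₂⟩ := exists_field_hom_of_generic (A := A₂) (K := K₂) (L := P.residueField p₀)
    (Field.toIsField _) (m ≫ pullback.snd f₁ f₂) (l := closedPoint _) (Eq.trans (congrArg (pullback.snd f₁ f₂) hm) he₂)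
  obtain ⟨χ₁, hχ₁, hc₁, hs₁⟩ := exists_local_map (B := A₄) (L := P.residueField p₀) ω₁ (c ≫ pullback.fst f₁ f₂)
    (by rw [← hω₁]; exact (Category.assoc _ _ _).symm.trans (congrArg (· ≫ pullback.fst f₁ f₂) hcm))
    (by rw [Scheme.Hom.comp_apply, hc, hp₁])
  obtain ⟨χ₂, hχ₂, hc₂, hs₂⟩ := exists_local_map (B := A₄) (L := P.residueField p₀) ω₂ (c ≫ pullback.snd f₁ f₂)
    (by rw [← hω₂]; exact (Category.assoc _ _ _).symm.trans (congrArg (· ≫ pullback.snd f₁ f₂) hcm))
    (by rw [Scheme.Hom.comp_apply, hc, hp₂])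
  refine ⟨P.residueField p₀, inferInstance, A₄, χ₁, χ₂, ω₁, ω₂, hχ₁, hχ₂, hc₁, hc₂, ?_⟩
  have e : χ₁.comp φ₁ = χ₂.comp φ₂ := by
    have : CommRingCat.ofHom φ₁ ≫ CommRingCat.ofHom χ₁ = CommRingCat.ofHom φ₂ ≫ CommRingCat.ofHom χ₂ :=
      Spec.map_injective (by rw [Spec.map_comp, Spec.map_comp, hs₁, hs₂, Category.assoc, Category.assoc,
        pullback.condition])
    exact congrArg CommRingCat.Hom.hom this
  refine IsLocalization.ringHom_ext (nonZeroDivisors A₀) ?_
  rw [RingHom.comp_assoc, RingHom.comp_assoc, ← c₁, ← c₂, ← RingHom.comp_assoc, ← RingHom.comp_assoc, ← hc₁,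
    ← hc₂, RingHom.comp_assoc, RingHom.comp_assoc, e]

end Groth.Agent.ValLib
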