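import Groth.Agent.ValLib.DenseAlg
import Groth.Agent.ValLib.UnivClosed
import Groth.Agent.FpqcDescent.Immersion

/-!
# The existence part from squares with generic point in a dense open
-/

universe u

open CategoryTheory CategoryTheory.Limits AlgebraicGeometry Opposite IsLocalRing

set_option backward.isDefEq.respectTransparency false

namespace Groth.Agent.ValLib

open _root_.AlgSp Groth.Agent.AlgSpLib

variable {S : Scheme.{u}}

/-- morphisms from a domain to an affine scheme are determined at the generic point -/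
theorem map_eq_of_generic {Z : Scheme.{u}} [IsAffine Z] {A K : Type u} [CommRing A] [CommRing K] (a : A →+* K)
    (ha : Function.Injective a) (g g' : Spec (CommRingCat.of A) ⟶ Z)
    (h : Spec.map (CommRingCat.ofHom a) ≫ g = Spec.map (CommRingCat.ofHom a) ≫ g') : g = g' := by
  obtain ⟨ρ, hρ⟩ := Spec.map_surjective (g ≫ Z.isoSpec.hom)
  obtain ⟨ρ', hρ'⟩ := Spec.map_surjective (g' ≫ Z.isoSpec.hom)
  have e : ρ ≫ CommRingCat.ofHom a = ρ' ≫ CommRingCat.ofHom a := Spec.map_injective (by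
    rw [Spec.map_comp, Spec.map_comp, hρ, hρ', reassoc_of% h])
  rw [← cancel_mono Z.isoSpec.hom, ← hρ, ← hρ',
    CommRingCat.hom_ext (RingHom.ext fun r => ha (congr($(e) r)) : ρ.hom = ρ'.hom)]

/-- the map a ring map induces on spectra, composed -/
lemma specMap_comp {A B C : Type u} [CommRing A] [CommRing B] [CommRing C] (f : A →+* B) (g : B →+* C) :
    Spec.map (CommRingCat.ofHom g) ≫ Spec.map (CommRingCat.ofHom f) = Spec.map (CommRingCat.ofHom (g.comp f)) := by
  rw [← Spec.map_comp, ← CommRingCat.ofHom_comp]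

/-- points of a chart are specializations of points of a dense quasi-compact piece -/
theorem exists_dense_point {X U : Sp S} (hX : IsAlgSpace X) (hU : IsAlgSpace U) {h : U ⟶ X}
    (hq : IsQuasiCompactMor h) (hd : DenseRange (Points.map h)) {W : Over S} [IsAffine W.left]
    (c : (yon S).obj W ⟶ X) (hc : RepWith @Etale c) (w : W.left) :
    ∃ (L : Type u) (_ : Field L) (B : ValuationSubring L) (cB : Spec (CommRingCat.of B) ⟶ W.left),
      cB (closedPoint B) = w ∧
      ∃ t : (yon S).obj (Over.mk (Spec.map (CommRingCat.ofHom B.subtype) ≫ cB ≫ W.hom)) ⟶ U,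
        t ≫ h = (yon S).map (Over.homMk (Spec.map (CommRingCat.ofHom B.subtype) ≫ cB) (Category.assoc _ _ _) :
          Over.mk (Spec.map (CommRingCat.ofHom B.subtype) ≫ cB ≫ W.hom) ⟶ W) ≫ c := by
  have sqU := IsPullback.of_hasPullback h c
  have hU' : IsAlgSpace (pullback h c) := isAlgSpace_of_isPullback_space hX hU (IsAlgSpace.yon_obj W) sqU
  have sqP : IsPullback c (𝟙 ((yon S).obj W)) (𝟙 X) c := IsPullback.of_vert_isIso ⟨by simp⟩
  have hd' := dense_baseChange hX hX hc sqP sqU hd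
  have := compactSpace_of_isQuasiCompactSp (hq (IsAlgSpace.yon_obj W) (isQuasiCompactSp_yon W) c _ _ sqU)
  obtain ⟨V, π, hV, -, hπs⟩ := exists_affine_chart_of_compact hU'
  obtain ⟨k, hk⟩ := exists_map_eq (π ≫ pullback.snd h c)
  have hcl : w ∈ closure (Set.range k.left) := by
    have h1 : Points.ofScheme W w ∈ closure (Set.range (Points.map (pullback.snd h c))) := hd' _
    have h2 : (Set.range (Points.map (pullback.snd h c))) = Points.schemeHomeo W '' Set.range k.left := by
      rw [← Set.range_comp]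
      ext y
      constructor
      · rintro ⟨x, rfl⟩
        obtain ⟨v, rfl⟩ := ofPt_surjective hπs x
        refine ⟨v, ?_⟩
        rw [Points.map_ofPt, ← hk, ofScheme_map]
        rfl
      · rintro ⟨v, rfl⟩
        refine ⟨Points.ofPt π v, ?_⟩
        rw [Points.map_ofPt, ← hk, ofScheme_map]
        rfl
    rw [h2, ← (Points.schemeHomeo W).image_closure] at h1
    obtain ⟨w', hw', e⟩ := h1
    exact (Points.schemeHomeo W).injective e ▸ hw'
  obtain ⟨v, hv⟩ := FpqcDescent.exists_specializes_of_mem_closure k.left hcl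
  obtain ⟨B, cB, hcB, hm⟩ := exists_valuation_of_specializes (L := V.left.residueField v)
    (V.left.fromSpecResidueField v ≫ k.left) (w := w) (by
      rw [Scheme.Hom.comp_apply]
      exact (congrArg k.left (Scheme.fromSpecResidueField_apply v _)).symm ▸ hv)
  refine ⟨V.left.residueField v, inferInstance, B, cB, hcB, ?_⟩
  let d : Over.mk (Spec.map (CommRingCat.ofHom B.subtype) ≫ cB ≫ W.hom) ⟶ V :=
    Over.homMk (V.left.fromSpecResidueField v) (by
      show V.left.fromSpecResidueField v ≫ V.hom = Spec.map _ ≫ cB ≫ W.hom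
      rw [← Over.w k, ← Category.assoc, ← hm, Category.assoc]
      rfl)
  refine ⟨(yon S).map d ≫ π ≫ pullback.fst h c, ?_⟩
  rw [Category.assoc, Category.assoc, pullback.condition, ← reassoc_of% hk, ← Functor.map_comp_assoc]
  exact congrArg (fun m => (yon S).map m ≫ c) (Over.OverMorphism.ext hm.symm)

set_option maxHeartbeats 1000000 in
/-- existence over an affine scheme from squares with generic point in a dense piece -/
theorem existVC_of_dense_affine {X U : Sp S} (hX : IsAlgSpace X) (hU : IsAlgSpace U) {Z : Over S} [IsAffine Z.left]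
    (f : X ⟶ (yon S).obj Z) {h : U ⟶ X} (hq : IsQuasiCompactMor h) (hd : DenseRange (Points.map h))
    (hl : LiftsFrom f h) (hu : UniqFrom f h) : ExistVC f := by
  intro sq
  obtain ⟨β, hβ⟩ := exists_map_eq sq.bot
  obtain ⟨U₁, π, ι₁, O, hπ, hπs, hO, -, hOcov⟩ := exists_affine_chart_family hX
  obtain ⟨u, hu₁⟩ := ofPt_surjective hπs (Points.ofPt sq.top (closedPoint sq.K))
  obtain ⟨n, hn⟩ := hOcov u
  let W : Over S := Over.mk ((O n).ι ≫ U₁.hom)
  have : IsAffine W.left := (hO n : IsAffine (O n).toScheme)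
  obtain ⟨c, hcdef⟩ : ∃ c, c = (yon S).map (Over.homMk (O n).ι rfl : W ⟶ U₁) ≫ π := ⟨_, rfl⟩
  have hce : RepWith @Etale c := hcdef ▸
    repWith_comp ((repWith_yon_iff _).2 (show Etale (O n).ι from inferInstance)) hπ
  let w : W.left := (⟨u, hn⟩ : ↥(O n))
  have hcw : Points.ofPt c w = Points.ofPt sq.top (closedPoint sq.K) := by
    rw [hcdef, ofPt_comp, ← hu₁]
    rfl
  obtain ⟨hW, hhW⟩ := exists_map_eq (c ≫ f)
  -- the field point over `w`
  obtain ⟨V, p, q, sqV⟩ := exists_pullback hX.diag c sq.top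
  obtain ⟨z, hzw, -⟩ := (ofPt_eq_iff sqV w (closedPoint sq.K : ↥sq.ptK.left)).1 hcw
  obtain ⟨ι₀, hι₀⟩ := Spec.map_surjective (R := CommRingCat.of sq.K) (V.left.fromSpecResidueField z ≫ q.left)
  have hpq : p ≫ hW = q ≫ sq.j ≫ β := (yon S).map_injective (by
    rw [Functor.map_comp, Functor.map_comp, Functor.map_comp, hhW, hβ, ← sq.comm]
    exact sqV.w_assoc f)
  -- the dense point
  obtain ⟨L, _, B, cB, hcB, t, ht⟩ := exists_dense_point hX hU hq hd c hce w
  obtain ⟨Ω, _, i₁, i₂, hi⟩ := exists_field_amalgam (L₁ := V.left.residueField z) (L₂ := ResidueField B)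
    (V.left.fromSpecResidueField z ≫ p.left) (Spec.map (CommRingCat.ofHom (residue B)) ≫ cB) (by
      rw [Scheme.Hom.comp_apply, Scheme.Hom.comp_apply]
      refine ((congrArg p.left (Scheme.fromSpecResidueField_apply z _)).trans hzw).trans (hcB.symm.trans ?_)
      exact congrArg cB (comap_closedPoint (residue B)).symm)
  let ιK : sq.K →+* Ω := i₁.comp ι₀.hom
  obtain ⟨A₁, hA₁, hA₁l⟩ := exists_factor_valuationRing (ιK.comp (algebraMap sq.A sq.K))
  let φA : sq.A →+* A₁ := (ιK.comp (algebraMap sq.A sq.K)).codRestrict A₁.toSubring hA₁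
  have hres : Spec.map (CommRingCat.ofHom i₂) ≫ Spec.map (CommRingCat.ofHom (residue B)) ≫ cB ≫ hW.left =
      Spec.map (CommRingCat.ofHom ιK) ≫ Spec.map (CommRingCat.ofHom (algebraMap sq.A sq.K)) ≫ β.left := by
    rw [← reassoc_of% hi]
    have e : p.left ≫ hW.left = q.left ≫ Spec.map (CommRingCat.ofHom (algebraMap sq.A sq.K)) ≫ β.left :=
      congrArg (fun m => m.left) hpq
    rw [e, ← reassoc_of% hι₀, ← Spec.map_comp_assoc]
    rfl
  obtain ⟨βC, hβC⟩ := exists_map_composite B i₂ A₁ (cB ≫ hW.left) (Spec.map (CommRingCat.ofHom φA) ≫ β.left) (by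
    rw [hres, ← Category.assoc, specMap_comp, ← Category.assoc, specMap_comp]
    rfl)
  -- the square on the composite
  let C := DvrDom.composite B (A₁.comap i₂)
  let gC : Over.mk (Spec.map (CommRingCat.ofHom (algebraMap C L)) ≫ βC ≫ Z.hom) ⟶ W :=
    Over.homMk (Spec.map (CommRingCat.ofHom B.subtype) ≫ cB) (by
      show (Spec.map _ ≫ cB) ≫ W.hom = _
      rw [← Over.w hW, Category.assoc, ← reassoc_of% hβC, ← Category.assoc, specMap_comp]
      rfl)
  let bC : Over.mk (βC ≫ Z.hom) ⟶ Z := Over.homMk βC rfl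
  let sqC : ValSq f :=
    { A := C, K := L, str := βC ≫ Z.hom, top := (yon S).map gC ≫ c, bot := (yon S).map bC
      comm := by
        rw [Category.assoc, ← hhW, ← Functor.map_comp, ← Functor.map_comp]
        refine congrArg (yon S).map (Over.OverMorphism.ext ?_)
        show (Spec.map _ ≫ cB) ≫ hW.left = Spec.map _ ≫ βC
        rw [Category.assoc, ← hβC, ← Category.assoc, specMap_comp]
        rfl }
  let d₀ : Over.mk (Spec.map (CommRingCat.ofHom (algebraMap C L)) ≫ βC ≫ Z.hom) ⟶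
      Over.mk (Spec.map (CommRingCat.ofHom B.subtype) ≫ cB ≫ W.hom) := Over.homMk (𝟙 _) (by
    show 𝟙 _ ≫ Spec.map _ ≫ cB ≫ W.hom = _
    rw [Category.id_comp, ← Category.assoc]
    exact Over.w gC)
  obtain ⟨e, l, hl₁, hl₂⟩ := hl sqC ⟨(yon S).map d₀ ≫ t, by
    refine (Category.assoc _ _ _).trans ((congrArg (_ ≫ ·) ht).trans ?_)
    refine ((yon S).map_comp_assoc _ _ c).symm.trans ?_
    exact congrArg (fun m => (yon S).map m ≫ c) (Over.OverMorphism.ext (Category.id_comp _))⟩
  obtain ⟨B', i, ι, A₂, ρ, j, χ, hiψ, hιC, hιi, hj, hρ, hχl, hχ⟩ :=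
    exists_valuation_above (C' := e.A') (L' := e.K') B (A₁.comap i₂) e.φ e.ψ e.comm e.isLocalHom
  -- the two lifts on the extension of `B` agree
  let g' : Over.mk (Spec.map (CommRingCat.ofHom i) ≫ cB ≫ W.hom) ⟶ W :=
    Over.homMk (Spec.map (CommRingCat.ofHom i) ≫ cB) (Category.assoc _ _ _)
  have hB'Z : Spec.map (CommRingCat.ofHom ι) ≫ Spec.map (CommRingCat.ofHom e.φ) ≫ βC =
      Spec.map (CommRingCat.ofHom i) ≫ cB ≫ hW.left := by
    rw [← hβC, ← Category.assoc, specMap_comp, ← Category.assoc, specMap_comp]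
    exact congrArg (fun r => Spec.map (CommRingCat.ofHom r) ≫ βC) hιi
  let hι : Over.mk (Spec.map (CommRingCat.ofHom i) ≫ cB ≫ W.hom) ⟶ e.ptA' :=
    Over.homMk (Spec.map (CommRingCat.ofHom ι)) (by
      show Spec.map _ ≫ Spec.map _ ≫ βC ≫ Z.hom = Spec.map _ ≫ cB ≫ W.hom
      rw [reassoc_of% hB'Z]
      exact congrArg (fun m => Spec.map (CommRingCat.ofHom i) ≫ cB ≫ m) (Over.w hW))
  let sq' : ValSq f :=
    { A := B', K := e.K', str := Spec.map (CommRingCat.ofHom i) ≫ cB ≫ W.hom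
      top := (yon S).map (Over.homMk (Spec.map (CommRingCat.ofHom (algebraMap B' e.K'))) rfl :
        Over.mk (Spec.map (CommRingCat.ofHom (algebraMap B' e.K')) ≫ Spec.map (CommRingCat.ofHom i) ≫ cB ≫ W.hom) ⟶
          Over.mk (Spec.map (CommRingCat.ofHom i) ≫ cB ≫ W.hom)) ≫ (yon S).map g' ≫ c
      bot := ((yon S).map g' ≫ c) ≫ f
      comm := Category.assoc _ _ _ }
  have hgen : Spec.map (CommRingCat.ofHom (algebraMap B' e.K')) ≫ Spec.map (CommRingCat.ofHom i) =
      Spec.map (CommRingCat.ofHom e.ψ) ≫ Spec.map (CommRingCat.ofHom B.subtype) := by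
    rw [specMap_comp, specMap_comp]
    exact congrArg (fun r => Spec.map (CommRingCat.ofHom r)) hiψ
  have hE : (yon S).map g' ≫ c = (yon S).map hι ≫ l := by
    refine hu sq' ⟨(yon S).map (Over.homMk (Spec.map (CommRingCat.ofHom e.ψ)) (by
        show Spec.map _ ≫ Spec.map _ ≫ cB ≫ W.hom = Spec.map _ ≫ Spec.map _ ≫ cB ≫ W.hom
        rw [reassoc_of% hgen]) : sq'.ptK ⟶ Over.mk (Spec.map (CommRingCat.ofHom B.subtype) ≫ cB ≫ W.hom)) ≫ t, ?_⟩ ((yon S).map g' ≫ c) ((yon S).map hι ≫ l) rfl rfl ?_ ?_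
    · refine (Category.assoc _ _ _).trans ((congrArg (_ ≫ ·) ht).trans ?_)
      refine ((yon S).map_comp_assoc _ _ c).symm.trans (Eq.trans ?_ ((yon S).map_comp_assoc _ _ c))
      refine congrArg (fun m => (yon S).map m ≫ c) (Over.OverMorphism.ext ?_)
      show Spec.map _ ≫ Spec.map _ ≫ cB = Spec.map _ ≫ Spec.map _ ≫ cB
      rw [reassoc_of% hgen]
    · refine ((yon S).map_comp_assoc _ _ l).symm.trans ?_
      let d : sq'.ptK ⟶ e.ptK' := Over.homMk (𝟙 _) (by
        show 𝟙 _ ≫ Spec.map _ ≫ Spec.map _ ≫ βC ≫ Z.hom = Spec.map _ ≫ Spec.map _ ≫ cB ≫ W.hom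
        rw [Category.id_comp, ← Over.w hW, ← reassoc_of% hB'Z]
        rw [← Category.assoc (Spec.map (CommRingCat.ofHom (algebraMap B' e.K'))), specMap_comp]
        exact congrArg (fun r => Spec.map (CommRingCat.ofHom r) ≫ Spec.map (CommRingCat.ofHom e.φ) ≫ βC ≫ Z.hom)
          hιC.symm)
      refine (congrArg (fun m => (yon S).map m ≫ l) (show _ = d ≫ (Over.homMk
        (Spec.map (CommRingCat.ofHom (algebraMap e.A' e.K'))) rfl : e.ptK' ⟶ e.ptA') from
        Over.OverMorphism.ext ?_)).trans ?_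
      · show Spec.map _ ≫ Spec.map _ = 𝟙 _ ≫ Spec.map _
        rw [Category.id_comp, specMap_comp]
        exact congrArg (fun r => Spec.map (CommRingCat.ofHom r)) hιC
      · refine ((yon S).map_comp_assoc _ _ l).trans ((congrArg (_ ≫ ·) hl₁).trans ?_)
        refine ((yon S).map_comp_assoc _ _ sqC.top).symm.trans ?_
        refine ((yon S).map_comp_assoc _ gC c).symm.trans (Eq.trans ?_ ((yon S).map_comp_assoc _ g' c))
        refine congrArg (fun m => (yon S).map m ≫ c) (Over.OverMorphism.ext ?_)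
        show (𝟙 _ ≫ Spec.map _) ≫ Spec.map _ ≫ cB = Spec.map _ ≫ Spec.map _ ≫ cB
        rw [Category.id_comp, reassoc_of% hgen]
    · refine (Category.assoc _ _ _).trans ((congrArg (_ ≫ ·) hl₂).trans ?_)
      refine Eq.trans ?_ (Category.assoc _ _ _).symm
      rw [← hhW]
      refine ((yon S).map_comp_assoc _ _ _).symm.trans ?_
      show (yon S).map _ ≫ (yon S).map bC = _
      rw [← Functor.map_comp, ← Functor.map_comp]
      refine congrArg (yon S).map (Over.OverMorphism.ext ?_)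
      show (Spec.map _ ≫ Spec.map _) ≫ βC = (Spec.map _ ≫ cB) ≫ hW.left
      rw [Category.assoc, Category.assoc, hB'Z]
  -- amalgamate
  let φ₁ : A₁.comap i₂ →+* A₁ := (i₂.comp (A₁.comap i₂).subtype).codRestrict A₁.toSubring fun x => x.2
  have hφ₁ : IsLocalHom φ₁ := by
    constructor
    intro x hx
    obtain ⟨y, hy⟩ := hx.exists_right_inv
    have hx0 : (x : ResidueField B) ≠ 0 := fun e0 => by
      have := hx.map A₁.subtype
      rw [show A₁.subtype (φ₁ x) = i₂ x from rfl, e0, map_zero] at this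
      exact not_isUnit_zero this
    have hmem : i₂ (x : ResidueField B)⁻¹ ∈ A₁ := by
      have h1 : i₂ (x : ResidueField B) * (y : Ω) = 1 := congrArg Subtype.val hy
      rw [map_inv₀, inv_eq_of_mul_eq_one_right h1]
      exact y.2
    exact IsUnit.of_mul_eq_one ⟨_, hmem⟩ (Subtype.ext (mul_inv_cancel₀ hx0))
  obtain ⟨Φ, _, A₄, χ₁, χ₂, ω₁, ω₂, hχ₁, hχ₂, hc₁, hc₂, hω⟩ :=
    exists_valuation_amalgam (K₀ := ResidueField B) (K₁ := Ω) (K₂ := ResidueField B') φ₁ i₂ rfl hφ₁ χ j hχ hχl
  have : IsLocalHom φA := hA₁l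
  have hcomm : (algebraMap A₄ Φ).comp (χ₁.comp φA) = (ω₁.comp ιK).comp (algebraMap sq.A sq.K) := by
    show (A₄.subtype.comp χ₁).comp φA = _
    rw [hc₁]
    rfl
  -- the generic point of the amalgam
  have hF : Spec.map (CommRingCat.ofHom ω₂) ≫ Spec.map (CommRingCat.ofHom (residue B')) ≫
      Spec.map (CommRingCat.ofHom i) ≫ cB =
      Spec.map (CommRingCat.ofHom ω₁) ≫ Spec.map (CommRingCat.ofHom i₁) ≫
        V.left.fromSpecResidueField z ≫ p.left := by
    rw [hi, ← Category.assoc (Spec.map (CommRingCat.ofHom (residue B'))), specMap_comp, ← hj, ← specMap_comp,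
      Category.assoc, ← Category.assoc, specMap_comp, ← hω, ← specMap_comp, Category.assoc]
  have hA₄ : Spec.map (CommRingCat.ofHom (algebraMap A₄ Φ)) ≫ Spec.map (CommRingCat.ofHom χ₂) ≫
      Spec.map (CommRingCat.ofHom ρ) = Spec.map (CommRingCat.ofHom ω₂) ≫
      Spec.map (CommRingCat.ofHom (residue B')) ≫ Spec.map (CommRingCat.ofHom ι) := by
    simp only [specMap_comp]
    refine congrArg (fun r => Spec.map (CommRingCat.ofHom r)) ?_
    show (A₄.subtype.comp χ₂).comp ρ = ω₂.comp ((residue B').comp ι)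
    rw [hc₂, RingHom.comp_assoc, ← hρ]
    rfl
  have hψ : Spec.map (CommRingCat.ofHom ω₁) ≫ Spec.map (CommRingCat.ofHom i₁) ≫
      V.left.fromSpecResidueField z ≫ q.left = Spec.map (CommRingCat.ofHom (ω₁.comp ιK)) := by
    rw [← hι₀]
    exact ((congrArg (Spec.map (CommRingCat.ofHom ω₁) ≫ ·) (Spec.map_comp ι₀ (CommRingCat.ofHom i₁)).symm).trans
      (specMap_comp ιK ω₁))
  have hbot : Spec.map (CommRingCat.ofHom χ₂) ≫ Spec.map (CommRingCat.ofHom ρ) ≫
      Spec.map (CommRingCat.ofHom e.φ) ≫ βC = Spec.map (CommRingCat.ofHom (χ₁.comp φA)) ≫ β.left := by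
    refine map_eq_of_generic (algebraMap A₄ Φ) (IsFractionRing.injective A₄ Φ) _ _ ?_
    rw [reassoc_of% hA₄, hB'Z, reassoc_of% hF, ← Category.assoc (Spec.map (CommRingCat.ofHom (algebraMap A₄ Φ))),
      specMap_comp, hcomm, show p.left ≫ hW.left = q.left ≫ Spec.map (CommRingCat.ofHom (algebraMap sq.A sq.K)) ≫
        β.left from congrArg (fun m => m.left) hpq, reassoc_of% hψ, ← Category.assoc, specMap_comp]
  let str' : Spec (CommRingCat.of A₄) ⟶ S := Spec.map (CommRingCat.ofHom (χ₁.comp φA)) ≫ sq.str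
  let T : Over S := Over.mk (Spec.map (CommRingCat.ofHom (algebraMap A₄ Φ)) ≫ str')
  let h24 : Over.mk str' ⟶ e.ptA' :=
    Over.homMk (Spec.map (CommRingCat.ofHom χ₂) ≫ Spec.map (CommRingCat.ofHom ρ)) (by
      show (Spec.map _ ≫ Spec.map _) ≫ Spec.map _ ≫ βC ≫ Z.hom = _
      rw [Category.assoc, reassoc_of% hbot]
      exact congrArg (fun m => Spec.map (CommRingCat.ofHom (χ₁.comp φA)) ≫ m) (Over.w β))
  have hT : (Spec.map (CommRingCat.ofHom ω₁) ≫ Spec.map (CommRingCat.ofHom i₁) ≫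
      V.left.fromSpecResidueField z) ≫ V.hom = T.hom := by
    rw [← Over.w q, Category.assoc, Category.assoc, reassoc_of% hψ]
    show Spec.map _ ≫ Spec.map _ ≫ sq.str = Spec.map _ ≫ Spec.map _ ≫ sq.str
    rw [← Category.assoc, specMap_comp, ← hcomm, ← Category.assoc, specMap_comp]
  let kz : T ⟶ V := Over.homMk _ hT
  let dF : T ⟶ Over.mk (Spec.map (CommRingCat.ofHom i) ≫ cB ≫ W.hom) :=
    Over.homMk (Spec.map (CommRingCat.ofHom ω₂) ≫ Spec.map (CommRingCat.ofHom (residue B'))) (by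
      show (Spec.map _ ≫ Spec.map _) ≫ Spec.map _ ≫ cB ≫ W.hom = T.hom
      rw [Category.assoc, reassoc_of% hF, ← hT, Category.assoc, Category.assoc]
      exact congrArg (fun m => Spec.map (CommRingCat.ofHom ω₁) ≫ Spec.map (CommRingCat.ofHom i₁) ≫
        V.left.fromSpecResidueField z ≫ m) (Over.w p))
  refine hasLiftExt_of_data sq (A' := A₄) (K' := Φ) (χ₁.comp φA) (ω₁.comp ιK) hcomm
    (@RingHom.isLocalHom_comp _ _ _ _ _ _ _ _ hχ₁ hA₁l) str' rfl ((yon S).map h24 ≫ l) (fun δ hδ => ?_)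
    (fun ε hε => ?_)
  · refine ((yon S).map_comp_assoc _ _ l).symm.trans ?_
    refine (congrArg (fun m => (yon S).map m ≫ l) (show _ = dF ≫ hι from Over.OverMorphism.ext ?_)).trans ?_
    · show Spec.map _ ≫ Spec.map _ ≫ Spec.map _ = (Spec.map _ ≫ Spec.map _) ≫ Spec.map _
      rw [hA₄, Category.assoc]
    refine ((yon S).map_comp_assoc _ _ l).trans ((congrArg (_ ≫ ·) hE.symm).trans ?_)
    refine ((yon S).map_comp_assoc _ _ c).symm.trans ?_
    refine (congrArg (fun m => (yon S).map m ≫ c) (show dF ≫ g' = kz ≫ p from Over.OverMorphism.ext ?_)).trans ?_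
    · show (Spec.map _ ≫ Spec.map _) ≫ Spec.map _ ≫ cB = (Spec.map _ ≫ Spec.map _ ≫ _) ≫ p.left
      rw [Category.assoc, hF, Category.assoc, Category.assoc]
    refine ((yon S).map_comp_assoc _ _ c).trans ((congrArg (_ ≫ ·) sqV.w).trans ?_)
    refine ((yon S).map_comp_assoc _ _ sq.top).symm.trans ?_
    refine congrArg (fun m => (yon S).map m ≫ sq.top) (Over.OverMorphism.ext ?_)
    show (Spec.map _ ≫ Spec.map _ ≫ _) ≫ q.left = δ.left
    rw [hδ, Category.assoc, Category.assoc, hψ]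
  · refine (Category.assoc _ _ _).trans ((congrArg (_ ≫ ·) hl₂).trans ?_)
    refine ((yon S).map_comp_assoc _ _ _).symm.trans ?_
    show (yon S).map _ ≫ (yon S).map bC = _
    rw [← Functor.map_comp, ← hβ, ← Functor.map_comp]
    refine congrArg (yon S).map (Over.OverMorphism.ext ?_)
    show ((Spec.map _ ≫ Spec.map _) ≫ Spec.map _) ≫ βC = ε.left ≫ β.left
    rw [hε, Category.assoc, Category.assoc, hbot]

end Groth.Agent.ValLib
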