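import Mathlib.RingTheory.TensorProduct.Basic
import Mathlib.RingTheory.FiniteType
import Mathlib.RingTheory.Spectrum.Prime.Topology
import Mathlib.RingTheory.Adjoin.FG

/-!
# A closed set with empty fibre stays fibre-empty over a finitely generated subalgebra
-/

universe u

open TensorProduct

namespace Groth.Agent.ValLib

variable {R C B : Type u} [CommRing R] [CommRing C] [CommRing B] [Algebra R C] [Algebra R B]

/-- the inclusion `C ⊗ B₀ → C ⊗ B` -/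
noncomputable abbrev tMap (B₀ : Subalgebra R B) : C ⊗[R] B₀ →ₐ[R] C ⊗[R] B :=
  Algebra.TensorProduct.map (AlgHom.id R C) B₀.val

/-- transition maps -/
noncomputable abbrev tInc {B₀ B₁ : Subalgebra R B} (h : B₀ ≤ B₁) : C ⊗[R] B₀ →ₐ[R] C ⊗[R] B₁ :=
  Algebra.TensorProduct.map (AlgHom.id R C) (Subalgebra.inclusion h)

lemma tMap_tInc {B₀ B₁ : Subalgebra R B} (h : B₀ ≤ B₁) (d : C ⊗[R] B₀) :
    tMap B₁ (tInc h d) = tMap B₀ d := by
  induction d using TensorProduct.induction_on with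
  | zero => simp
  | tmul x y => rfl
  | add x y hx hy => simp only [map_add, hx, hy]

theorem exists_tMap_eq (d : C ⊗[R] B) : ∃ B₀ : Subalgebra R B, B₀.FG ∧ d ∈ Set.range (tMap (C := C) B₀) := by
  induction d using TensorProduct.induction_on with
  | zero => exact ⟨⊥, Subalgebra.fg_bot, 0, map_zero _⟩
  | tmul x y =>
    exact ⟨Algebra.adjoin R {y}, ⟨{y}, by simp⟩, x ⊗ₜ ⟨y, Algebra.subset_adjoin rfl⟩, rfl⟩
  | add x y hx hy =>
    obtain ⟨B₁, h₁, x', rfl⟩ := hx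
    obtain ⟨B₂, h₂, y', rfl⟩ := hy
    exact ⟨B₁ ⊔ B₂, h₁.sup h₂, tInc (B₁ := B₁ ⊔ B₂) le_sup_left x' + tInc (B₁ := B₁ ⊔ B₂) le_sup_right y', by
      rw [map_add, tMap_tInc, tMap_tInc]⟩

/-- elements of the extension of a prime come from the extension of its trace on a finitely generated subalgebra -/
theorem exists_mem_map (p : Ideal B) {x : C ⊗[R] B}
    (hx : x ∈ p.map (Algebra.TensorProduct.includeRight : B →ₐ[R] C ⊗[R] B).toRingHom) :
    ∃ B₀ : Subalgebra R B, B₀.FG ∧ ∃ x₀ : C ⊗[R] B₀, tMap B₀ x₀ = x ∧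
      x₀ ∈ (p.comap B₀.val.toRingHom).map
        (Algebra.TensorProduct.includeRight : B₀ →ₐ[R] C ⊗[R] B₀).toRingHom := by
  have inc : ∀ {B₀ B₁ : Subalgebra R B} (h : B₀ ≤ B₁) {z : C ⊗[R] B₀},
      z ∈ (p.comap B₀.val.toRingHom).map
        (Algebra.TensorProduct.includeRight : B₀ →ₐ[R] C ⊗[R] B₀).toRingHom →
      tInc h z ∈ (p.comap B₁.val.toRingHom).map
        (Algebra.TensorProduct.includeRight : B₁ →ₐ[R] C ⊗[R] B₁).toRingHom := by
    intro B₀ B₁ h z hz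
    have := Ideal.mem_map_of_mem (tInc (C := C) h).toRingHom hz
    rw [Ideal.map_map] at this
    refine (Ideal.map_le_iff_le_comap.2 ?_) this
    intro b hb
    have : (tInc (C := C) h).toRingHom.comp (Algebra.TensorProduct.includeRight : B₀ →ₐ[R] C ⊗[R] B₀).toRingHom b =
        (Algebra.TensorProduct.includeRight : B₁ →ₐ[R] C ⊗[R] B₁) (Subalgebra.inclusion h b) := rfl
    rw [Ideal.mem_comap, this]
    exact Ideal.mem_map_of_mem _ hb
  refine Submodule.span_induction ?_ ?_ ?_ ?_ hx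
  · rintro _ ⟨b, hb, rfl⟩
    exact ⟨Algebra.adjoin R {b}, ⟨{b}, by simp⟩, 1 ⊗ₜ ⟨b, Algebra.subset_adjoin rfl⟩, rfl,
      Ideal.mem_map_of_mem (I := p.comap (Algebra.adjoin R {b}).val.toRingHom)
        (Algebra.TensorProduct.includeRight : Algebra.adjoin R {b} →ₐ[R] C ⊗[R] Algebra.adjoin R {b}).toRingHom
        (x := ⟨b, Algebra.subset_adjoin rfl⟩) hb⟩
  · exact ⟨⊥, Subalgebra.fg_bot, 0, map_zero _, Ideal.zero_mem _⟩
  · rintro a b - - ⟨B₁, h₁, a', rfl, ha⟩ ⟨B₂, h₂, b', rfl, hb⟩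
    exact ⟨B₁ ⊔ B₂, h₁.sup h₂, tInc (B₁ := B₁ ⊔ B₂) le_sup_left a' + tInc (B₁ := B₁ ⊔ B₂) le_sup_right b', by
      rw [map_add, tMap_tInc, tMap_tInc], add_mem (inc le_sup_left ha) (inc le_sup_right hb)⟩
  · rintro d a - ⟨B₁, h₁, a', rfl, ha⟩
    obtain ⟨B₂, h₂, d', rfl⟩ := exists_tMap_eq d
    refine ⟨B₁ ⊔ B₂, h₁.sup h₂, tInc (B₁ := B₁ ⊔ B₂) le_sup_right d' * tInc (B₁ := B₁ ⊔ B₂) le_sup_left a', ?_, Ideal.mul_mem_left _ _ (inc le_sup_left ha)⟩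
    rw [map_mul, tMap_tInc, tMap_tInc]
    rfl

/-- empty fibre of a closed set is seen over a finitely generated subalgebra -/
theorem exists_fg_empty_fibre (J : Ideal (C ⊗[R] B)) (p : Ideal B) [p.IsPrime]
    (h : ∀ q : Ideal (C ⊗[R] B), q.IsPrime → J ≤ q →
      q.comap (Algebra.TensorProduct.includeRight : B →ₐ[R] C ⊗[R] B).toRingHom ≠ p) :
    ∃ B₀ : Subalgebra R B, B₀.FG ∧ ∀ q₀ : Ideal (C ⊗[R] B₀), q₀.IsPrime → J.comap (tMap B₀).toRingHom ≤ q₀ →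
      q₀.comap (Algebra.TensorProduct.includeRight : B₀ →ₐ[R] C ⊗[R] B₀).toRingHom ≠ p.comap B₀.val.toRingHom := by
  let ι := (Algebra.TensorProduct.includeRight : B →ₐ[R] C ⊗[R] B).toRingHom
  obtain ⟨s, hs, hsI⟩ : ∃ s ∉ p, ι s ∈ J ⊔ p.map ι := by
    by_contra hc
    push Not at hc
    have hdis : Disjoint ((J ⊔ p.map ι : Ideal (C ⊗[R] B)) : Set (C ⊗[R] B))
        ((p.primeCompl.map ι : Submonoid (C ⊗[R] B)) : Set (C ⊗[R] B)) := by
      rw [Set.disjoint_right]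
      rintro _ ⟨s, hs, rfl⟩
      exact hc s hs
    obtain ⟨q, hq, hle, hd⟩ := Ideal.exists_le_prime_disjoint _ _ hdis
    refine h q hq (le_sup_left.trans hle) (le_antisymm (fun b hb => ?_) ?_)
    · by_contra hbp
      exact Set.disjoint_left.1 hd hb ⟨b, hbp, rfl⟩
    · exact Ideal.map_le_iff_le_comap.1 (le_sup_right.trans hle)
  obtain ⟨j, hj, x, hx, hjx⟩ := Submodule.mem_sup.1 hsI
  obtain ⟨B₁, h₁, x₁, hx₁, hx₁p⟩ := exists_mem_map p hx
  let B₀ := B₁ ⊔ Algebra.adjoin R {s}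
  have hs₀ : s ∈ B₀ := (le_sup_right : _ ≤ B₀) (Algebra.subset_adjoin rfl)
  refine ⟨B₀, h₁.sup ⟨{s}, by simp⟩, fun q₀ hq₀ hJ heq => ?_⟩
  let ι₀ := (Algebra.TensorProduct.includeRight : B₀ →ₐ[R] C ⊗[R] B₀).toRingHom
  let x₀ : C ⊗[R] B₀ := tInc (B₁ := B₀) (le_sup_left : B₁ ≤ B₀) x₁
  have hx₀ : x₀ ∈ q₀ := by
    have hm := Ideal.mem_map_of_mem (tInc (C := C) (le_sup_left : B₁ ≤ B₀)).toRingHom hx₁p
    rw [Ideal.map_map] at hm
    show (tInc (C := C) (le_sup_left : B₁ ≤ B₀)).toRingHom x₁ ∈ q₀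
    refine (Ideal.map_le_iff_le_comap.2 ?_) hm
    intro b hb
    have : (tInc (C := C) (le_sup_left : B₁ ≤ B₀)).toRingHom.comp
        (Algebra.TensorProduct.includeRight : B₁ →ₐ[R] C ⊗[R] B₁).toRingHom b =
        ι₀ (Subalgebra.inclusion le_sup_left b) := rfl
    rw [Ideal.mem_comap, this, ← Ideal.mem_comap, heq]
    exact hb
  have hj₀ : ι₀ ⟨s, hs₀⟩ - x₀ ∈ q₀ := hJ (by
    show tMap B₀ (ι₀ ⟨s, hs₀⟩ - x₀) ∈ J
    rw [map_sub, show tMap B₀ x₀ = x from (tMap_tInc _ _).trans hx₁, show tMap B₀ (ι₀ ⟨s, hs₀⟩) = ι s from rfl, ← hjx, add_sub_cancel_right]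
    exact hj)
  have : (⟨s, hs₀⟩ : B₀) ∈ q₀.comap ι₀ := by
    simpa using add_mem hj₀ hx₀
  rw [heq] at this
  exact hs this

end Groth.Agent.ValLib
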