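import Groth.Agent.ValLib.EtLift
import Groth.Agent.AlgSpLib.LocPMore

/-!
# Valuation rings lift to etale charts after an extension; squares after extension and base change
-/

universe u

open CategoryTheory CategoryTheory.Limits AlgebraicGeometry Opposite IsLocalRing

set_option backward.isDefEq.respectTransparency false

namespace Groth.Agent.ValLib

open _root_.AlgSp Groth.Agent.AlgSpLib

variable {S : Scheme.{u}}

/-- a field point over the generic point extends to the fraction field -/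
theorem exists_field_hom_of_generic {A K : Type u} [CommRing A] [IsDomain A] [Field K] [Algebra A K]
    [IsFractionRing A K] {L : CommRingCat.{u}} (hL : IsField L) (m : Spec L ⟶ Spec (CommRingCat.of A))
    {l : Spec L} (e : m l = Spec.map (CommRingCat.ofHom (algebraMap A K)) (closedPoint K)) :
    ∃ ψ : K →+* L, m = Spec.map (CommRingCat.ofHom ψ) ≫ Spec.map (CommRingCat.ofHom (algebraMap A K)) := by
  obtain ⟨ρ, rfl⟩ := Spec.map_surjective m
  letI := hL.toField
  have hρinj : Function.Injective ρ.hom := by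
    rw [RingHom.injective_iff_ker_eq_bot]
    have e' := congrArg PrimeSpectrum.asIdeal e
    change l.asIdeal.comap ρ.hom = (maximalIdeal K).comap (algebraMap A K) at e'
    rw [(Ideal.eq_bot_or_top l.asIdeal).resolve_right l.isPrime.ne_top, IsLocalRing.maximalIdeal_eq_bot,
      ← RingHom.ker_eq_comap_bot, ← RingHom.ker_eq_comap_bot,
      (RingHom.injective_iff_ker_eq_bot _).1 (IsFractionRing.injective A K)] at e'
    exact e'
  refine ⟨IsFractionRing.lift (g := ρ.hom) hρinj, ?_⟩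
  rw [← Spec.map_comp, ← CommRingCat.ofHom_comp]
  exact congrArg Spec.map (CommRingCat.hom_ext (RingHom.ext (IsFractionRing.lift_algebraMap hρinj)).symm)

/-- a valuation ring mapping to a space lifts to a chart after a dominating extension -/
theorem exists_local_lift {X : Sp S} (hX : IsAlgSpace X) {A K : Type u} [CommRing A] [IsDomain A] [ValuationRing A]
    [Field K] [Algebra A K] [IsFractionRing A K] {str : Spec (CommRingCat.of A) ⟶ S}
    (a : (yon S).obj (Over.mk str) ⟶ X) {V : Over S} {p : (yon S).obj V ⟶ X} (hp : RepWith @Etale p)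
    (hps : RepWith @Surjective p) :
    ∃ (L : Type u) (_ : Field L) (B : ValuationSubring L) (φ : A →+* B) (ψ : K →+* L) (O : V.left.Opens)
      (_ : IsAffineOpen O) (c : Spec (CommRingCat.of B) ⟶ O.toScheme) (k : Over.mk (Spec.map (CommRingCat.ofHom φ) ≫ str) ⟶ V),
      IsLocalHom φ ∧ (algebraMap B L).comp φ = ψ.comp (algebraMap A K) ∧ k.left = c ≫ O.ι ∧
      (yon S).map k ≫ p = (yon S).map (Over.homMk (Spec.map (CommRingCat.ofHom φ)) rfl :
        Over.mk (Spec.map (CommRingCat.ofHom φ) ≫ str) ⟶ Over.mk str) ≫ a := by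
  obtain ⟨W, pV, qA, sqW⟩ := exists_pullback hX.diag p a
  have : Etale qA.left := (repWith_yon_iff qA).1 (repWith_baseChange sqW hp)
  obtain ⟨v, hv⟩ := ofPt_surjective hps (Points.ofPt a (closedPoint A : ↥(Over.mk str).left))
  obtain ⟨w, hwv, hw⟩ := (ofPt_eq_iff sqW v (closedPoint A : ↥(Over.mk str).left)).1 hv
  obtain ⟨w', hw'w, hw'⟩ := Flat.generalizingMap qA.left
    (show Spec.map (CommRingCat.ofHom (algebraMap A K)) (closedPoint K) ⤳ qA.left w by
      rw [hw]; exact specializes_closedPoint _)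
  obtain ⟨B, c, hc, hcm⟩ := exists_valuation_of_specializes (L := W.left.residueField w')
    (W.left.fromSpecResidueField w') (w := w)
    ((Scheme.fromSpecResidueField_apply w' (closedPoint (W.left.residueField w'))).symm ▸ hw'w)
  obtain ⟨ψ, hψ⟩ := exists_field_hom_of_generic (K := K) (Field.toIsField _) (W.left.fromSpecResidueField w' ≫ qA.left) (by
    rw [Scheme.Hom.comp_apply]
    exact (congrArg qA.left (Scheme.fromSpecResidueField_apply w' (closedPoint _))).trans hw')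
  obtain ⟨φ, hφ, hcomm, hφc⟩ := exists_local_map (B := B) (L := W.left.residueField w') ψ (c ≫ qA.left) (by
    rw [reassoc_of% hcm, hψ])
    (by rw [Scheme.Hom.comp_apply, hc]; exact hw)
  obtain ⟨O, hO, hmem, -⟩ := TopologicalSpace.Opens.isBasis_iff_nbhd.mp V.left.isBasis_affineOpens
    (TopologicalSpace.Opens.mem_top v)
  have hr : Set.range (c ≫ pV.left) ⊆ Set.range (Scheme.Opens.ι (X := V.left) O) := by
    rw [Scheme.Opens.range_ι]
    rintro _ ⟨q, rfl⟩
    refine ((specializes_closedPoint q).map (c ≫ pV.left).continuous).mem_open O.2 ?_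
    show (c ≫ pV.left) (closedPoint B) ∈ O
    rw [Scheme.Hom.comp_apply, hc, hwv]
    exact hmem
  let cW : Over.mk (Spec.map (CommRingCat.ofHom φ) ≫ str) ⟶ W := Over.homMk c (by
    show c ≫ W.hom = Spec.map (CommRingCat.ofHom φ) ≫ str
    rw [hφc, Category.assoc, ← Over.w qA]
    rfl)
  refine ⟨W.left.residueField w', inferInstance, B, φ, ψ, O, hO, IsOpenImmersion.lift (Scheme.Opens.ι (X := V.left) O) _ hr, cW ≫ pV, hφ,
    hcomm, (IsOpenImmersion.lift_fac _ _ _).symm, ?_⟩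
  rw [Functor.map_comp, Category.assoc, sqW.w, ← Functor.map_comp_assoc]
  exact congrArg (fun m => (yon S).map m ≫ a) (Over.OverMorphism.ext hφc.symm)

/-- the square after a dominating extension -/
noncomputable def sqExt {X Y : Sp S} {f : X ⟶ Y} (sq : ValSq f) {A' K' : Type u} [CommRing A'] [IsDomain A']
    [ValuationRing A'] [Field K'] [Algebra A' K'] [IsFractionRing A' K'] (φ : sq.A →+* A') (ψ : sq.K →+* K')
    (comm : (algebraMap A' K').comp φ = ψ.comp (algebraMap sq.A sq.K)) : ValSq f where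
  A := A'
  K := K'
  str := Spec.map (CommRingCat.ofHom φ) ≫ sq.str
  top := (yon S).map (Over.homMk (Spec.map (CommRingCat.ofHom ψ)) (by
    change Spec.map _ ≫ Spec.map _ ≫ _ = Spec.map _ ≫ Spec.map _ ≫ _
    rw [← Spec.map_comp_assoc, ← Spec.map_comp_assoc, ← CommRingCat.ofHom_comp, ← CommRingCat.ofHom_comp, comm]) :
    Over.mk (Spec.map (CommRingCat.ofHom (algebraMap A' K')) ≫ Spec.map (CommRingCat.ofHom φ) ≫ sq.str) ⟶
      sq.ptK) ≫ sq.top
  bot := (yon S).map (Over.homMk (Spec.map (CommRingCat.ofHom φ)) rfl :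
    Over.mk (Spec.map (CommRingCat.ofHom φ) ≫ sq.str) ⟶ sq.ptA) ≫ sq.bot
  comm := by
    refine (Category.assoc _ _ _).trans ((congrArg (_ ≫ ·) sq.comm).trans ?_)
    refine ((yon S).map_comp_assoc _ _ sq.bot).symm.trans (Eq.trans ?_ ((yon S).map_comp_assoc _ _ sq.bot))
    refine congrArg (fun m => (yon S).map m ≫ sq.bot) (Over.OverMorphism.ext ?_)
    show Spec.map _ ≫ Spec.map _ = Spec.map _ ≫ Spec.map _
    rw [← Spec.map_comp, ← Spec.map_comp, ← CommRingCat.ofHom_comp, ← CommRingCat.ofHom_comp, comm]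

theorem hasLiftExt_of_sqExt {X Y : Sp S} {f : X ⟶ Y} (sq : ValSq f) {A' K' : Type u} [CommRing A'] [IsDomain A']
    [ValuationRing A'] [Field K'] [Algebra A' K'] [IsFractionRing A' K'] (φ : sq.A →+* A') (ψ : sq.K →+* K')
    (comm : (algebraMap A' K').comp φ = ψ.comp (algebraMap sq.A sq.K)) (hφ : IsLocalHom φ)
    (h : (sqExt sq φ ψ comm).HasLiftExt) : sq.HasLiftExt := by
  obtain ⟨e, l, h1, h2⟩ := h
  refine hasLiftExt_of_data sq (A' := e.A') (K' := e.K') ((e.φ : A' →+* e.A').comp φ) ((e.ψ : K' →+* e.K').comp ψ)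
    (RingHom.ext fun x => (congr($(e.comm) (φ x))).trans (congrArg e.ψ congr($(comm) x)))
    (@RingHom.isLocalHom_comp _ _ _ _ _ _ _ _ e.isLocalHom hφ)
    (Spec.map (CommRingCat.ofHom e.φ) ≫ (sqExt sq φ ψ comm).str) (Spec.map_comp_assoc _ _ _).symm l
    (fun δ hδ => ?_) (fun ε hε => ?_)
  · refine h1.trans (((yon S).map_comp_assoc _ _ sq.top).symm.trans ?_)
    refine congrArg (fun m => (yon S).map m ≫ sq.top) (Over.OverMorphism.ext ?_)
    rw [hδ]
    exact (Spec.map_comp _ _).symm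
  · refine h2.trans (((yon S).map_comp_assoc _ _ sq.bot).symm.trans ?_)
    refine congrArg (fun m => (yon S).map m ≫ sq.bot) (Over.OverMorphism.ext ?_)
    rw [hε]
    exact (Spec.map_comp _ _).symm

theorem exists_top_sqExt {U X Y : Sp S} {f : X ⟶ Y} {h : U ⟶ X} (sq : ValSq f) {A' K' : Type u} [CommRing A']
    [IsDomain A'] [ValuationRing A'] [Field K'] [Algebra A' K'] [IsFractionRing A' K'] (φ : sq.A →+* A')
    (ψ : sq.K →+* K') (comm : (algebraMap A' K').comp φ = ψ.comp (algebraMap sq.A sq.K))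
    (ht : ∃ t : (yon S).obj sq.ptK ⟶ U, t ≫ h = sq.top) :
    ∃ t : (yon S).obj (sqExt sq φ ψ comm).ptK ⟶ U, t ≫ h = (sqExt sq φ ψ comm).top := by
  obtain ⟨t, ht⟩ := ht
  exact ⟨_ ≫ t, (Category.assoc _ _ _).trans (congrArg (_ ≫ ·) ht)⟩

/-- the square of a base change -/
noncomputable def sqUp {X Y P : Sp S} {f : X ⟶ Y} {Z : Over S} {g : (yon S).obj Z ⟶ Y} {fst : P ⟶ X}
    {snd : P ⟶ (yon S).obj Z} (sqP : IsPullback fst snd f g) (sq : ValSq f) (k : sq.ptA ⟶ Z)
    (hk : (yon S).map k ≫ g = sq.bot) : ValSq snd where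
  A := sq.A
  K := sq.K
  str := sq.str
  top := sqP.lift sq.top ((yon S).map sq.j ≫ (yon S).map k) (by rw [Category.assoc, hk]; exact sq.comm)
  bot := (yon S).map k
  comm := sqP.lift_snd _ _ _

theorem hasLiftExt_of_sqUp {X Y P : Sp S} {f : X ⟶ Y} {Z : Over S} {g : (yon S).obj Z ⟶ Y} {fst : P ⟶ X}
    {snd : P ⟶ (yon S).obj Z} (sqP : IsPullback fst snd f g) (sq : ValSq f) (k : sq.ptA ⟶ Z)
    (hk : (yon S).map k ≫ g = sq.bot) (h : (sqUp sqP sq k hk).HasLiftExt) : sq.HasLiftExt := by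
  obtain ⟨e, l, h1, h2⟩ := h
  refine hasLiftExt_of_data sq (A' := e.A') (K' := e.K') e.φ e.ψ e.comm e.isLocalHom
    (Spec.map (CommRingCat.ofHom e.φ) ≫ sq.str) rfl (l ≫ fst) (fun δ hδ => ?_) (fun ε hε => ?_)
  · refine (Category.assoc _ _ _).symm.trans ((congrArg (fun m => m ≫ fst) h1).trans ?_)
    refine (Category.assoc _ _ _).trans ((congrArg (_ ≫ ·) (sqP.lift_fst _ _ _)).trans ?_)
    exact congrArg (fun m => (yon S).map m ≫ sq.top) (Over.OverMorphism.ext hδ.symm)
  · refine (Category.assoc _ _ _).trans ((congrArg (l ≫ ·) sqP.w).trans ?_)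
    refine (Category.assoc _ _ _).symm.trans ((congrArg (fun m => m ≫ g) h2).trans ?_)
    refine (Category.assoc _ _ _).trans ((congrArg (_ ≫ ·) hk).trans ?_)
    exact congrArg (fun m => (yon S).map m ≫ sq.bot) (Over.OverMorphism.ext hε.symm)

/-- valuative squares with top through `h` lift after an extension -/
def LiftsFrom {U X Y : Sp S} (f : X ⟶ Y) (h : U ⟶ X) : Prop :=
  ∀ sq : ValSq f, (∃ t : (yon S).obj sq.ptK ⟶ U, t ≫ h = sq.top) → sq.HasLiftExt

/-- valuative squares with top through `h` have at most one lift -/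
def UniqFrom {U X Y : Sp S} (f : X ⟶ Y) (h : U ⟶ X) : Prop :=
  ∀ sq : ValSq f, (∃ t : (yon S).obj sq.ptK ⟶ U, t ≫ h = sq.top) → sq.HasUniq

/-- the square under a square of a base change -/
noncomputable def sqDown {X Y P Q : Sp S} {f : X ⟶ Y} {g : Q ⟶ Y} {fst : P ⟶ X} {snd : P ⟶ Q}
    (sqP : IsPullback fst snd f g) (sq : ValSq snd) : ValSq f where
  A := sq.A
  K := sq.K
  str := sq.str
  top := sq.top ≫ fst
  bot := sq.bot ≫ g
  comm := by rw [Category.assoc, sqP.w, ← Category.assoc, sq.comm, Category.assoc]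

theorem hasLiftExt_of_sqDown {X Y P Q : Sp S} {f : X ⟶ Y} {g : Q ⟶ Y} {fst : P ⟶ X} {snd : P ⟶ Q}
    (sqP : IsPullback fst snd f g) (sq : ValSq snd) (h : (sqDown sqP sq).HasLiftExt) : sq.HasLiftExt := by
  obtain ⟨e, l, h1, h2⟩ := h
  let d : Over.mk (Spec.map (CommRingCat.ofHom (algebraMap e.A' e.K')) ≫ Spec.map (CommRingCat.ofHom e.φ) ≫ sq.str) ⟶
      sq.ptK := Over.homMk (Spec.map (CommRingCat.ofHom e.ψ)) (by
    change Spec.map _ ≫ Spec.map _ ≫ _ = Spec.map _ ≫ Spec.map _ ≫ _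
    rw [← Spec.map_comp_assoc, ← Spec.map_comp_assoc, ← CommRingCat.ofHom_comp, ← CommRingCat.ofHom_comp, e.comm]
    rfl)
  let c : Over.mk (Spec.map (CommRingCat.ofHom e.φ) ≫ sq.str) ⟶ sq.ptA :=
    Over.homMk (Spec.map (CommRingCat.ofHom e.φ)) rfl
  refine hasLiftExt_of_data sq (A' := e.A') (K' := e.K') e.φ e.ψ e.comm e.isLocalHom
    (Spec.map (CommRingCat.ofHom e.φ) ≫ sq.str) rfl
    (sqP.lift l ((yon S).map c ≫ sq.bot) (h2.trans (Category.assoc _ _ _).symm)) (fun δ hδ => ?_) (fun ε hε => ?_)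
  · apply sqP.hom_ext
    · refine (Category.assoc _ _ _).trans ((congrArg (_ ≫ ·) (sqP.lift_fst _ _ _)).trans (h1.trans ?_))
      refine Eq.trans ?_ (Category.assoc _ _ _).symm
      exact congrArg (fun m => (yon S).map m ≫ sq.top ≫ fst) (Over.OverMorphism.ext hδ.symm)
    · refine (Category.assoc _ _ _).trans ((congrArg (_ ≫ ·) (sqP.lift_snd _ _ _)).trans ?_)
      refine Eq.trans ?_ ((Category.assoc _ _ _).trans (congrArg (_ ≫ ·) sq.comm)).symm
      refine ((yon S).map_comp_assoc _ _ sq.bot).symm.trans (Eq.trans ?_ ((yon S).map_comp_assoc _ _ sq.bot))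
      refine congrArg (fun m => (yon S).map m ≫ sq.bot) (Over.OverMorphism.ext ?_)
      rw [Over.comp_left, Over.comp_left, hδ]
      show Spec.map _ ≫ Spec.map _ = Spec.map _ ≫ Spec.map _
      rw [← Spec.map_comp, ← Spec.map_comp, ← CommRingCat.ofHom_comp, ← CommRingCat.ofHom_comp, e.comm]
      rfl
  · rw [sqP.lift_snd]
    exact congrArg (fun m => (yon S).map m ≫ sq.bot) (Over.OverMorphism.ext hε.symm)

theorem hasUniq_of_sqDown {X Y P Q : Sp S} {f : X ⟶ Y} {g : Q ⟶ Y} {fst : P ⟶ X} {snd : P ⟶ Q}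
    (sqP : IsPullback fst snd f g) (sq : ValSq snd) (h : (sqDown sqP sq).HasUniq) : sq.HasUniq := by
  intro l l' h1 h2 h3 h4
  refine sqP.hom_ext (h (l ≫ fst) (l' ≫ fst) ?_ ?_ ?_ ?_) (h2.trans h4.symm)
  · exact (Category.assoc _ _ _).symm.trans (congrArg (· ≫ fst) h1)
  · exact (Category.assoc _ _ _).trans ((congrArg (l ≫ ·) sqP.w).trans
      ((Category.assoc _ _ _).symm.trans (congrArg (· ≫ g) h2)))
  · exact (Category.assoc _ _ _).symm.trans (congrArg (· ≫ fst) h3)
  · exact (Category.assoc _ _ _).trans ((congrArg (l' ≫ ·) sqP.w).trans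
      ((Category.assoc _ _ _).symm.trans (congrArg (· ≫ g) h4)))

theorem liftsFrom_baseChange {U U' X Y P Q : Sp S} {f : X ⟶ Y} {g : Q ⟶ Y} {fst : P ⟶ X} {snd : P ⟶ Q}
    (sqP : IsPullback fst snd f g) {h : U ⟶ X} {u : U' ⟶ U} {h' : U' ⟶ P} (w : u ≫ h = h' ≫ fst)
    (hl : LiftsFrom f h) : LiftsFrom snd h' := fun sq ⟨t, ht⟩ => hasLiftExt_of_sqDown sqP sq (hl _ ⟨t ≫ u, by
      show (t ≫ u) ≫ h = sq.top ≫ fst
      rw [Category.assoc, w, ← Category.assoc, ht]⟩)

theorem uniqFrom_baseChange {U U' X Y P Q : Sp S} {f : X ⟶ Y} {g : Q ⟶ Y} {fst : P ⟶ X} {snd : P ⟶ Q}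
    (sqP : IsPullback fst snd f g) {h : U ⟶ X} {u : U' ⟶ U} {h' : U' ⟶ P} (w : u ≫ h = h' ≫ fst)
    (hl : UniqFrom f h) : UniqFrom snd h' := fun sq ⟨t, ht⟩ => hasUniq_of_sqDown sqP sq (hl _ ⟨t ≫ u, by
      show (t ≫ u) ≫ h = sq.top ≫ fst
      rw [Category.assoc, w, ← Category.assoc, ht]⟩)

/-- quasi-compact dense maps to an etale base change -/
theorem dense_baseChange {U U' X Y P : Sp S} (hX : IsAlgSpace X) (hY : IsAlgSpace Y) {f : X ⟶ Y} {Z : Over S}
    {g : (yon S).obj Z ⟶ Y} (hg : RepWith @Etale g) {fst : P ⟶ X} {snd : P ⟶ (yon S).obj Z}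
    (sqP : IsPullback fst snd f g) {h : U ⟶ X} {u : U' ⟶ U} {h' : U' ⟶ P} (sqU : IsPullback u h' h fst)
    (hd : DenseRange (Points.map h)) : DenseRange (Points.map h') := by
  have hP : IsAlgSpace P := isAlgSpace_of_isPullback_space hY hX (IsAlgSpace.yon_obj Z) sqP
  have he : RepWith @Etale fst := repWith_baseChange sqP.flip hg
  have ho : IsOpenMap (Points.map fst) := isOpenMap_map_of_flat_lfp hP hX fst
    ((locP_iff_repWith etST_flat hX he.1).2 (repWith_mono (fun _ _ r hr => by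
      have : Etale r := hr
      infer_instance) he))
    ((locP_iff_repWith etST_lfp hX he.1).2 (repWith_mono (fun _ _ r hr => by
      have : Etale r := hr
      infer_instance) he))
  refine (hd.preimage ho).mono ?_
  rintro x ⟨y, hy⟩
  obtain ⟨z, -, hz⟩ := exists_point_of_isPullback sqU y x hy
  exact ⟨z, hz⟩

theorem quasiCompact_baseChange {U U' X P : Sp S} {h : U ⟶ X} {fst : P ⟶ X} {u : U' ⟶ U} {h' : U' ⟶ P}
    (sqU : IsPullback u h' h fst) (hq : IsQuasiCompactMor h) : IsQuasiCompactMor h' :=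
  fun _ _ hW hWq g _ _ sqW => hq hW hWq (g ≫ fst) _ _ (sqW.paste_horiz sqU)

end Groth.Agent.ValLib
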